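import Groth.Agent.PicF.K718.PtY

/-!
# The boundary map on units of `Y`

* `dl_eq_zero_iff`: its kernel over the base is the constants;
* `exists_wd`: the one-parameter families of units of an idempotent;
* `r_eq_of_line`: units on `Y × A¹` are constant in the line.
-/

set_option autoImplicit false
universe u
open CategoryTheory CategoryTheory.Limits AlgebraicGeometry Opposite

noncomputable section

namespace Groth.Agent.PicF.K718

open Groth.Agent.Etdl.H432.Sec Groth.Agent.Etdl.H432.Un Groth.Agent.Etdl.H494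
  Groth.Agent.Etdl.H494.Gamma K505.RatConst

variable {k : Type u} [Field k] {Y P : Scheme.{u}} {i : Y ⟶ P} {π : P ⟶ Spec (CommRingCat.of k)}

theorem bijective_cst_pt : Function.Bijective (cst (pt k)) := by
  have h1 : Function.Bijective (Scheme.ΓSpecIso (CommRingCat.of k)).inv.hom :=
    ConcreteCategory.bijective_of_isIso (Scheme.ΓSpecIso (CommRingCat.of k)).inv
  have h2 : ∀ a, cst (pt k) a = (Scheme.ΓSpecIso (CommRingCat.of k)).inv.hom a := by
    intro a
    change (Scheme.Hom.appTop (𝟙 (Spec (CommRingCat.of k)))).hom _ = _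
    rw [Scheme.Hom.id_appTop]
    rfl
  exact ⟨fun a b h => h1.1 (by rw [← h2, ← h2, h]), fun b => by
    obtain ⟨a, ha⟩ := h1.2 b
    exact ⟨a, by rw [h2, ha]⟩⟩

theorem cst_Y (a : k) : (i ≫ π).appTop.hom (cst (pt k) a) = cst (Over.mk (i ≫ π)) a :=
  ro_cst (T := pt k) (T' := Over.mk (i ≫ π)) (Over.homMk (i ≫ π) (Category.comp_id _)) a

theorem fn_res (g : Γs (EtDl.GmF P) (PO π (pt k))) (a : O (pt k))
    (h : (pullback.fst (pt k).hom π).appTop.hom a = (gm g : O (PO π (pt k)))) :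
    fn (m (EtDl.resGmF i) _ g) = (i ≫ π).appTop.hom a := by
  rw [fn, cv_res, ← h, tr]
  have h2 := congrArg (fun φ => (Scheme.Hom.appTop φ).hom a) (zt_fst (i := i) (π := π))
  simp only [Scheme.Hom.comp_appTop] at h2 ⊢
  exact h2

theorem dl_eq_zero_iff [IsAlgClosed k] [IsProper π] [Smooth π] [IsIntegral P] [IsClosedImmersion i] [Nonempty Y]
    (v : Γs (C i) (PO π (pt k))) : dl π v = 0 ↔ ∃ a : k, fn v = cst (Over.mk (i ≫ π)) a := by
  constructor
  · intro h
    obtain ⟨g, rfl⟩ := exists_of_dl_eq_zero π v h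
    obtain ⟨a', ha'⟩ := (bijective_fst (π := π) (pt k)).2 (gm g : O (PO π (pt k)))
    obtain ⟨a, rfl⟩ := bijective_cst_pt.2 a'
    exact ⟨a, by rw [fn_res g _ ha', cst_Y]⟩
  · rintro ⟨a, ha⟩
    have h1 : a ≠ 0 := by
      rintro rfl
      rw [map_zero] at ha
      have h2 := isUnit_fn v
      rw [ha] at h2
      have : Nonempty (⊤ : Y.Opens) := ⟨⟨Classical.arbitrary Y, trivial⟩⟩
      have : Nontrivial Γ(Y, ⊤) := inferInstance
      exact not_isUnit_zero h2
    have h2 : IsUnit ((pullback.fst (pt k).hom π).appTop.hom (cst (pt k) a)) :=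
      ((isUnit_iff_ne_zero.2 h1).map _).map _
    obtain ⟨g, hg⟩ := gm_surjective (U := PO π (pt k)) h2.unit
    have h3 : (pullback.fst (pt k).hom π).appTop.hom (cst (pt k) a) = (gm g : O (PO π (pt k))) := by
      rw [hg]
      rfl
    have h4 : m (EtDl.resGmF i) _ g = v := by
      apply fn_injective
      rw [fn_res g _ h3, ha, cst_Y]
    rw [← h4, dl_res]

theorem zt_mapY_snd [Mono i] {T : Over (Spec (CommRingCat.of k))} (t : pt k ⟶ T) :
    zt i π ≫ mapY i (POm π t) ≫ pullback.snd (PO π T).hom i = 𝟙 Y := by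
  have e : ∀ (h1 : (PO π (pt k)).hom ≫ 𝟙 _ = (POm π t).left ≫ (PO π T).hom) (h2 : i ≫ 𝟙 _ = 𝟙 _ ≫ i),
      pullback.map (PO π (pt k)).hom i (PO π T).hom i (POm π t).left (𝟙 _) (𝟙 _) h1 h2 ≫
      pullback.snd (PO π T).hom i = pullback.snd (PO π (pt k)).hom i := by
    intro h1 h2
    rw [pullback.lift_snd, Category.comp_id]
  rw [mapY, e, zt_snd]

theorem zt_mapY_fst [Mono i] {T : Over (Spec (CommRingCat.of k))} (t : pt k ⟶ T) :
    zt i π ≫ mapY i (POm π t) ≫ pullback.fst (PO π T).hom i ≫ pullback.fst T.hom π = (i ≫ π) ≫ t.left := by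
  have e : (POm π t).left ≫ pullback.fst T.hom π = pullback.fst (pt k).hom π ≫ t.left := pullback.lift_fst _ _ _
  rw [← Category.assoc (mapY i (POm π t)), mapY_fst, Category.assoc, e, ← zt_fst (i := i) (π := π)]
  simp only [Category.assoc]

theorem isUnit_wd {R : Type*} [CommRing R] (e t : R) (he : e * e = e) (ht : IsUnit t) : IsUnit (1 + e * (t - 1)) := by
  obtain ⟨u, rfl⟩ := ht
  refine IsUnit.of_mul_eq_one (1 + e * ((↑u⁻¹ : R) - 1)) ?_
  have h : (u : R) * (↑u⁻¹ : R) = 1 := Units.mul_inv u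
  calc (1 + e * ((u : R) - 1)) * (1 + e * ((↑u⁻¹ : R) - 1)) =
      1 + e * ((u : R) + (↑u⁻¹ : R) - 2) + (e * e) * ((u : R) * (↑u⁻¹ : R) - (u : R) - (↑u⁻¹ : R) + 1) := by ring
    _ = 1 := by rw [he, h]; ring

theorem exists_wd [Mono i] (e : Γ(Y, ⊤)) (he : e * e = e) : ∃ w : Γs (C i) (PO π (gmS k)),
    ∀ t : pt k ⟶ gmS k, fn (r (C i) (POm π t) w) = 1 + e * ((i ≫ π).appTop.hom (ro t (tau k)) - 1) := by
  let e' : Γ(pullback (PO π (gmS k)).hom i, ⊤) := (pullback.snd (PO π (gmS k)).hom i).appTop.hom e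
  let t' : Γ(pullback (PO π (gmS k)).hom i, ⊤) :=
    (pullback.fst (PO π (gmS k)).hom i ≫ pullback.fst (gmS k).hom π).appTop.hom (tau k)
  have he' : e' * e' = e' := (map_mul _ _ _).symm.trans (congrArg _ he)
  have ht' : IsUnit t' := isUnit_tau.map _
  obtain ⟨w, hw⟩ := exists_cv (1 + e' * (t' - 1)) (isUnit_wd e' t' he' ht')
  refine ⟨w, fun t => ?_⟩
  have h1 : (zt i π).appTop.hom ((mapY i (POm π t)).appTop.hom e') = e := by
    have h2 := congrArg (fun φ => (Scheme.Hom.appTop φ).hom e) (zt_mapY_snd (i := i) (π := π) t)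
    simp only [Scheme.Hom.comp_appTop, Scheme.Hom.id_appTop] at h2
    exact h2
  have h3 : (zt i π).appTop.hom ((mapY i (POm π t)).appTop.hom t') = (i ≫ π).appTop.hom (ro t (tau k)) := by
    have h2 := congrArg (fun φ => (Scheme.Hom.appTop φ).hom (tau k)) (zt_mapY_fst (i := i) (π := π) t)
    simp only [Scheme.Hom.comp_appTop] at h2 ⊢
    exact h2
  rw [fn, cv_r, hw, map_add, map_mul, map_sub, map_one, map_add, map_mul, map_sub, map_one, h1, h3]

/-- Units on `Y × A¹` are constant along the line. -/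
theorem r_eq_of_line [IsAlgClosed k] [Mono i] [LocallyOfFiniteType (i ≫ π)] [IsReduced Y]
    (v : Γs (C i) (PO π (aff k PUnit.{u+1}))) (t t' : pt k ⟶ aff k PUnit.{u+1}) :
    r (C i) (POm π t) v = r (C i) (POm π t') v := by
  apply ext_sl
  intro y hy
  rw [sl_r, sl_r]
  obtain ⟨a, ha⟩ := exists_cst_of_isUnit (sl y hy v) (isUnit_sl y hy v)
  rw [← ha, ro_cst, ro_cst]

end Groth.Agent.PicF.K718

end
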