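import Groth.Agent.PicF.K718.EpiRes
import Groth.Agent.Etdl.H494.Main

/-!
# The boundary map `π_* i_* G_m ⟶ R¹π_* G_m(m)`

* `hI : G_m ⟶ I`, `hQ : i_* G_m ⟶ Q`: morphism of short exact sequences
  `(0 → F → G_m → i_* G_m → 0) ⟶ (0 → F → I → Q → 0)`.
* `dl v = cl (hQ v)`.
-/

set_option autoImplicit false
universe u
open CategoryTheory CategoryTheory.Limits AlgebraicGeometry Opposite

noncomputable section

namespace Groth.Agent.PicF.K718

open Groth.Agent.Etdl.H432.Sec Groth.Agent.Etdl.H432.Un Groth.Agent.Etdl.H432.LS Groth.Agent.Etdl.H494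
  Groth.Agent.Etdl.H494.Gamma
open Groth.Agent.Etdl.H432.IQ (Q I α β β_α α_injective exists_α αβ)

variable {Y P S : Scheme.{u}} (i : Y ⟶ P)

/-- The extension of `F ⟶ I` to `G_m`. -/
def hI : EtDl.GmF P ⟶ I i := Injective.factorThru (α i) (incl i)

theorem incl_hI : incl i ≫ hI i = α i := Injective.comp_factorThru _ _

/-- The exact sequence of units. -/
def seq : ShortComplex (EtFppf.AbF P) := ShortComplex.mk (incl i) (EtDl.resGmF i) (incl_res i)

theorem seq_shortExact [IsClosedImmersion i] : (seq i).ShortExact where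
  exact := ShortComplex.exact_kernel _
  mono_f := inferInstanceAs (Mono (incl i))
  epi_g := epi_resGmF

/-- The map on quotients. -/
def hQ [IsClosedImmersion i] : C i ⟶ Q i :=
  haveI : Epi (seq i).g := epi_resGmF
  (seq_shortExact i).exact.desc (hI i ≫ β i) (by
    change incl i ≫ hI i ≫ β i = 0
    rw [← Category.assoc, incl_hI, αβ])

theorem res_hQ [IsClosedImmersion i] : EtDl.resGmF i ≫ hQ i = hI i ≫ β i := by
  have : Epi (seq i).g := epi_resGmF
  exact (seq_shortExact i).exact.g_desc _ _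

variable {i}

theorem hI_incl {W : Over P} (s : Γs (F i) W) : m (hI i) W (m (incl i) W s) = m (α i) W s := by
  rw [← m_comp, incl_hI]

theorem hQ_res [IsClosedImmersion i] {W : Over P} (g : Γs (EtDl.GmF P) W) :
    m (hQ i) W (m (EtDl.resGmF i) W g) = m (β i) W (m (hI i) W g) := by
  rw [← m_comp, res_hQ, m_comp]

theorem res_incl {W : Over P} (s : Γs (F i) W) : m (EtDl.resGmF i) W (m (incl i) W s) = 0 := by
  rw [← m_comp, incl_res, m_zero]

theorem exists_incl {W : Over P} (g : Γs (EtDl.GmF P) W) (hg : m (EtDl.resGmF i) W g = 0) :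
    ∃ s : Γs (F i) W, m (incl i) W s = g :=
  Groth.Agent.Etdl.H432.IQ.exists_of_exact (incl_res i) (ShortComplex.exact_kernel _) g hg

theorem gm_ext {W : Over P} {g g' : Γs (EtDl.GmF P) W} (h1 : m (hI i) W g = m (hI i) W g')
    (h2 : m (EtDl.resGmF i) W g = m (EtDl.resGmF i) W g') : g = g' := by
  obtain ⟨s, hs⟩ := exists_incl (i := i) (g - g') (by rw [map_sub, h2, sub_self])
  have h3 : m (α i) W s = 0 := by
    rw [← hI_incl, hs, map_sub, h1, sub_self]
  have h4 : s = 0 := α_injective (by rw [h3, map_zero])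
  rw [h4, map_zero] at hs
  exact (sub_eq_zero.1 hs.symm)

/-- The square `G_m, I, i_* G_m, Q` is cartesian. -/
theorem exists_gm [IsClosedImmersion i] {W : Over P} (v : Γs (C i) W) (b : Γs (I i) W)
    (h : m (hQ i) W v = m (β i) W b) : ∃ g : Γs (EtDl.GmF P) W, m (hI i) W g = b ∧ m (EtDl.resGmF i) W g = v := by
  have h1 : ∀ x : W.left, ∃ (V : Over P) (k : V ⟶ W) (_ : Flat k.left) (_ : LocallyOfFinitePresentation k.left)
      (_ : x ∈ Set.range k.left) (g : Γs (EtDl.GmF P) V), m (hI i) V g = r (I i) k b ∧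
        m (EtDl.resGmF i) V g = r (C i) k v := by
    intro x
    have : Epi (EtDl.resGmF i) := epi_resGmF
    obtain ⟨V, k, g, h1, h2, h3, hg⟩ := exists_lift (EtDl.resGmF i) v x
    obtain ⟨s, hs⟩ := exists_α (i := i) (m (hI i) V g - r (I i) k b) (by
      rw [map_sub, ← hQ_res, hg, m_r, m_r, h, sub_self])
    refine ⟨V, k, h1, h2, h3, g - m (incl i) V s, ?_, ?_⟩
    · rw [map_sub, hI_incl, hs]
      abel
    · rw [map_sub, hg, res_incl, sub_zero]
  choose V k h2 h3 h4 g h5 h6 using h1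
  obtain ⟨t, ht⟩ := glue (EtDl.GmF P) (V := V) (g := k) (fun x => ⟨x, h2 x, h3 x, h4 x⟩) g (by
    intro x y Z a b' hab
    apply gm_ext (i := i)
    · rw [m_r, m_r, h5, h5, r_r, r_r, hab]
    · rw [m_r, m_r, h6, h6, r_r, r_r, hab])
  refine ⟨t, ?_, ?_⟩
  · refine sep (I i) (V := V) (g := k) (fun x => ⟨x, h2 x, h3 x, h4 x⟩) _ _ (fun x => ?_)
    rw [← m_r, ht, h5]
  · refine sep (C i) (V := V) (g := k) (fun x => ⟨x, h2 x, h3 x, h4 x⟩) _ _ (fun x => ?_)
    rw [← m_r, ht, h6]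

variable (π : P ⟶ S) [IsClosedImmersion i]

/-- The boundary map on sections. -/
def dl {T : Over S} : Γs (C i) (PO π T) →+ Γs (Jc π i) T := (cl π).comp (m (hQ i) (PO π T))

theorem dl_apply {T : Over S} (v : Γs (C i) (PO π T)) : dl π v = cl π (m (hQ i) (PO π T) v) := rfl

theorem dl_r {T T' : Over S} (g : T' ⟶ T) (v : Γs (C i) (PO π T)) :
    dl π (r (C i) (POm π g) v) = r (Jc π i) g (dl π v) := by
  rw [dl_apply, m_r, cl_r, dl_apply]

theorem dl_res {T : Over S} (g : Γs (EtDl.GmF P) (PO π T)) : dl π (m (EtDl.resGmF i) _ g) = 0 := by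
  rw [dl_apply, hQ_res, cl_β]

/-- The kernel of the boundary map on points. -/
theorem exists_of_dl_eq_zero {Ω : Type u} [Field Ω] [IsAlgClosed Ω] {x : Spec (CommRingCat.of Ω) ⟶ S}
    (v : Γs (C i) (PO π (Over.mk x))) (hv : dl π v = 0) :
    ∃ g : Γs (EtDl.GmF P) (PO π (Over.mk x)), m (EtDl.resGmF i) _ g = v := by
  obtain ⟨b, hb⟩ := exists_of_cl_eq_zero_pt _ hv
  obtain ⟨g, -, hg⟩ := exists_gm v b hb.symm
  exact ⟨g, hg⟩

end Groth.Agent.PicF.K718

end
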