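import Groth.Agent.PicF.K718.Push
import Groth.Agent.PicF.K718.Delta

/-!
# Rigidification along a section

`R¹π_* G_m(s) ≅ R¹π_* G_m ≅ R¹π_* G_m(∅)` for a section `s` of `π`.
-/

set_option autoImplicit false
universe u
open CategoryTheory CategoryTheory.Limits AlgebraicGeometry Opposite

noncomputable section

namespace Groth.Agent.PicF.K718

open Groth.Agent.Etdl.H432.Sec Groth.Agent.Etdl.H432.Un Groth.Agent.Etdl.H494
  Groth.Agent.Etdl.H494.Gamma

variable {Y P S : Scheme.{u}}

theorem res_eq_zero (i : Y ⟶ P) [IsEmpty Y] : EtDl.resGmF i = 0 := by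
  apply (sheafToPresheaf _ _).map_injective
  ext W g
  change m (EtDl.resGmF i) W.unop g = 0
  have h1 : IsEmpty (pullback W.unop.hom i : Scheme.{u}) := ⟨fun x => IsEmpty.false (pullback.snd W.unop.hom i x)⟩
  have h2 : Subsingleton Γ(pullback W.unop.hom i, ⊤) := by
    have : (⊤ : (pullback W.unop.hom i).Opens) = ⊥ := by
      ext x
      exact (h1.false x).elim
    rw [this]
    infer_instance
  exact cv_injective (i := i) (Subsingleton.elim _ _)

theorem nonempty_iso_empty (i : Y ⟶ P) [IsEmpty Y] : Nonempty (F i ≅ EtDl.GmF P) := by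
  have h : IsIso (incl i) := by
    have e := res_eq_zero i
    have h1 : ∀ (f : EtDl.GmF P ⟶ C i), f = 0 → IsIso (kernel.ι f) := by
      rintro f rfl
      infer_instance
    exact h1 _ e
  exact ⟨asIso (incl i)⟩

variable (π : P ⟶ S) (s : S ⟶ P) (hs : s ≫ π = 𝟙 S)

include hs in
theorem epi_push_res : Epi ((EtFppf.pushBig π).map (EtDl.resGmF s)) := by
  apply Groth.Agent.Etdl.H512.GmModSec.epi_of_local
  intro T v x
  let a : PT π T ⟶ pullback (pullback.snd T.hom π) s :=
    pullback.fst T.hom π ≫ pullback.lift (pullback.lift (𝟙 _) (T.hom ≫ s) (by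
      rw [Category.id_comp, Category.assoc, hs, Category.comp_id])) T.hom (by rw [pullback.lift_snd])
  have ha : pullback.fst (pullback.snd T.hom π) s ≫ a = 𝟙 _ := by
    have h1 : pullback.fst (pullback.snd T.hom π) s ≫ pullback.fst T.hom π ≫ T.hom =
        pullback.snd (pullback.snd T.hom π) s := by
      rw [pullback.condition, pullback.condition_assoc, hs, Category.comp_id]
    apply pullback.hom_ext
    · apply pullback.hom_ext
      · simp only [a, Category.assoc, pullback.lift_fst_assoc, pullback.lift_fst, Category.comp_id, Category.id_comp]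
      · simp only [a, Category.assoc, pullback.lift_fst_assoc, pullback.lift_fst, pullback.lift_snd, Category.id_comp]
        rw [reassoc_of% h1, ← pullback.condition]
    · simp only [a, Category.assoc, pullback.lift_snd, Category.id_comp]
      exact h1
  obtain ⟨g, hg⟩ := gm_surjective (X := P) (U := PO π T) ((isUnit_cv (i := s) (W := PO π T) v).map a.appTop.hom).unit
  refine ⟨T, 𝟙 T, inferInstanceAs (Etale (𝟙 T.left)), ⟨x, rfl⟩, g, ?_⟩
  have h2 : m (EtDl.resGmF s) (PO π T) g = v := by
    apply cv_injective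
    rw [cv_res, hg, IsUnit.unit_spec]
    have h3 := congr(Scheme.Hom.appTop $ha)
    rw [Scheme.Hom.comp_appTop, Scheme.Hom.id_appTop] at h3
    exact congr($(h3).hom (cv s v))
  rw [op_id, CategoryTheory.Functor.map_id]
  exact h2

include hs in
theorem isIso_map_incl [IsClosedImmersion s] : IsIso ((EtFppf.RpushBig π 1).map (incl s)) := by
  have hS := seq_shortExact s
  have h1 : IsZero (((EtFppf.pushBig π).rightDerived 1).obj (seq s).X₃) := isZero_R1 π s hs _
  have h2 : Epi (((EtFppf.pushBig π).rightDerived 1).map (seq s).f) :=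
    (Groth.Agent.Etrest.RDer1.exact₂ (EtFppf.pushBig π) hS 1).epi_f (h1.eq_of_tgt _ _)
  have h3 : Epi ((EtFppf.pushBig π).map (seq s).g) := epi_push_res π s hs
  have h4 : Epi (((EtFppf.pushBig π).rightDerived 0).map (seq s).g) := epi_zero _ _
  have h5 : Groth.Agent.Etrest.RDer1.δ (EtFppf.pushBig π) hS 0 = 0 := by
    rw [← cancel_epi (((EtFppf.pushBig π).rightDerived 0).map (seq s).g),
      Groth.Agent.Etrest.RDer1.comp_δ, comp_zero]
  have h6 : Mono (((EtFppf.pushBig π).rightDerived 1).map (seq s).f) :=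
    (Groth.Agent.Etrest.RDer1.exact₁ (EtFppf.pushBig π) hS 0).mono_g h5
  exact isIso_of_mono_of_epi (((EtFppf.pushBig π).rightDerived 1).map (seq s).f)

include hs in
/-- The direct images for the empty subscheme and for a section agree. -/
theorem nonempty_iso_rigid [IsClosedImmersion s] (i : Y ⟶ P) [IsEmpty Y] :
    Nonempty ((EtFppf.RpushBig π 1).obj (EtDl.GmMod i) ≅ (EtFppf.RpushBig π 1).obj (EtDl.GmMod s)) := by
  obtain ⟨e⟩ := nonempty_iso_empty i
  have := isIso_map_incl π s hs
  exact ⟨(EtFppf.RpushBig π 1).mapIso e ≪≫ (asIso ((EtFppf.RpushBig π 1).map (incl s))).symm⟩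

end Groth.Agent.PicF.K718

end
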