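import Groth.Agent.PicF.K718.Rank
import Groth.Agent.PicF.K718.Rigid
import Groth.Agent.S14585
import Groth.Agent.S0353

/-!
# The neutral component of the Picard scheme of a pair is semi-abelian
-/

set_option autoImplicit false
universe u
open CategoryTheory CategoryTheory.Limits AlgebraicGeometry Opposite MonoidalCategory CartesianMonoidalCategory
  MonObj GrpObj

noncomputable section

namespace Groth.Agent.PicF.K718

open Groth.Agent.Etdl.H432.Sec Groth.Agent.Etdl.H432.Un Groth.Agent.Etdl.H494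
  Groth.Agent.Etdl.H494.Gamma K505.RatConst

/-- The case of a non-empty subscheme. -/
theorem core {k : Type u} [Field k] [IsAlgClosed k] [CharZero k] {Y P : Scheme.{u}} {i : Y ⟶ P}
    {π : P ⟶ Spec (CommRingCat.of k)} [IsProper π] [Smooth π] [IsIntegral P] [IsClosedImmersion i] [IsReduced Y]
    [Nonempty Y] (G : Over (Spec (CommRingCat.of k))) [GrpObj G] [IsCommMonObj G] [LocallyOfFiniteType G.hom]
    (e : CGrpSh.pts Scheme.fppfPrecoverage G ≅ Jc π i) (c : ℕ) (hc : Nat.card (_root_.ConnectedComponents Y) = c) :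
    ∃ (P0 : Over (Spec (CommRingCat.of k))) (_ : GrpObj P0) (e : P0 ⟶ G) (_ : IsMonHom e)
      (T : Over (Spec (CommRingCat.of k))) (_ : GrpObj T) (j : T ⟶ P0) (_ : IsMonHom j)
      (A : Over (Spec (CommRingCat.of k))) (_ : GrpObj A) (q : P0 ⟶ A) (_ : IsMonHom q),
      IsOpenImmersion e.left ∧ ConnectedSpace ↥P0.left ∧ IsClosedImmersion j.left ∧
      Red.IsSplitTorusWith (Fin (c - 1) → ℤ) T ∧
      IsProper A.hom ∧ Smooth A.hom ∧ ConnectedSpace ↥A.left ∧
      Surjective q.left ∧ Flat q.left ∧ AlgGrp.IsKernel j q := by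
  have hsm : Smooth G.hom := Groth.Agent.S0353.result k G
  obtain ⟨G0, hG0, u, hu1, hu2, hu3, hu4, hu5, hu6, hu7⟩ := Groth.Agent.Sga3.H813.Neutral.exists_neutral G
  have hconn : ConnectedSpace ↥G0.left := by
    have h2 : IrreducibleSpace ↥G0.left :=
      GeometricallyIrreducible.geometrically_irreducibleSpace (f := G0.hom) (𝟙 _) (𝟙 _) G0.hom
        (IsPullback.id_horiz _)
    infer_instance
  have hmu : Mono u := (Over.forget _).mono_of_mono_map (inferInstanceAs (Mono u.left))
  obtain ⟨T, hT, j, A, hA, q, hj, hjc, hT2, hq, hqs, hqf, hk, hAp, hAs, hAc⟩ :=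
    (Groth.Agent.S14585.result k G0).2 fun f => line_const e G0 u f
  obtain ⟨n, hn⟩ := Groth.Agent.Sga3B.TorusAlgClosed.exists_isSplitTorusWith hT2
  have hcard := card_eq e u j q hu3 hk hn
  have hcn : c - 1 = n := by omega
  subst hcn
  exact ⟨G0, hG0, u, hu1, T, hT, j, hj, A, hA, q, hq, hu2, hconn, hjc, hn, hAp, hAs, hAc, hqs, hqf, hk⟩

end Groth.Agent.PicF.K718

end
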