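import Mathlib.GroupTheory.QuotientGroup.Basic
import Mathlib.GroupTheory.Coset.Card
import Mathlib.FieldTheory.IsAlgClosed.Basic
import Mathlib.Algebra.Group.Subgroup.Finite

/-!
# Counting 2-torsion

* `natCard_eq`: a surjection `(ι → A) →* (Fin r → A)` with kernel the constants, `A` with exactly two square roots of
  one and all square roots, forces `|ι| = r + 1`.
* characters of `ℤ^r`.
-/

set_option autoImplicit false

namespace Groth.Agent.PicF.K718

section count

variable {A : Type*} [CommGroup A]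

/-- The two-torsion. -/
abbrev tt (G : Type*) [CommGroup G] : Subgroup G := (powMonoidHom 2 : G →* G).ker

theorem mem_tt {G : Type*} [CommGroup G] (x : G) : x ∈ tt G ↔ x ^ 2 = 1 := Iff.rfl

theorem card_tt_pi (ι : Type*) [Finite ι] (h : Nat.card (tt A) = 2) : Nat.card (tt (ι → A)) = 2 ^ Nat.card ι := by
  have := Fintype.ofFinite ι
  let e : tt (ι → A) ≃ (ι → tt A) :=
    { toFun := fun x j => ⟨x.1 j, congrFun ((mem_tt x.1).1 x.2) j⟩
      invFun := fun y => ⟨fun j => (y j).1, (mem_tt _).2 (funext fun j => (mem_tt _).1 (y j).2)⟩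
      left_inv := fun _ => rfl
      right_inv := fun _ => rfl }
  rw [Nat.card_congr e, Nat.card_pi, Finset.prod_congr rfl (fun _ _ => h), Finset.prod_const,
    Finset.card_univ, Nat.card_eq_fintype_card]

theorem natCard_eq (h2 : ∀ a : A, ∃ b : A, b ^ 2 = a) (hc : Nat.card (tt A) = 2) (ι : Type*) [Finite ι] [Nonempty ι]
    (r : ℕ) (Θ : (ι → A) →* (Fin r → A)) (hs : Function.Surjective Θ)
    (hk : ∀ u, Θ u = 1 ↔ ∃ a : A, u = fun _ => a) : Nat.card ι = r + 1 := by
  obtain ⟨i₀⟩ := ‹Nonempty ι›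
  let f : tt (ι → A) →* tt (Fin r → A) :=
    (Θ.comp (tt (ι → A)).subtype).codRestrict (tt (Fin r → A)) (by
      intro x
      rw [mem_tt, MonoidHom.comp_apply, ← map_pow, ← map_pow]
      have : x ^ 2 = 1 := Subtype.ext ((mem_tt _).1 x.2)
      rw [this, map_one, map_one])
  have hf : Function.Surjective f := by
    rintro ⟨y, hy⟩
    obtain ⟨u, rfl⟩ := hs y
    rw [mem_tt, ← map_pow, hk] at hy
    obtain ⟨a, ha⟩ := hy
    obtain ⟨b, hb⟩ := h2 a
    refine ⟨⟨u * (fun _ => b)⁻¹, ?_⟩, ?_⟩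
    · rw [mem_tt, mul_pow, inv_pow, ha]
      have : (fun _ : ι => b) ^ 2 = fun _ => a := by
        funext j
        exact hb
      rw [this, mul_inv_cancel]
    · apply Subtype.ext
      change Θ (u * (fun _ => b)⁻¹) = Θ u
      rw [map_mul, map_inv, (hk _).2 ⟨b, rfl⟩, inv_one, mul_one]
  have hker : Nat.card f.ker = 2 := by
    rw [← hc]
    refine Nat.card_congr
      { toFun := fun x => ⟨x.1.1 i₀, congrFun ((mem_tt x.1.1).1 x.1.2) i₀⟩
        invFun := fun y => ⟨⟨fun _ => y.1, (mem_tt _).2 (funext fun _ => (mem_tt _).1 y.2)⟩, ?_⟩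
        left_inv := ?_
        right_inv := fun _ => rfl }
    · rw [MonoidHom.mem_ker]
      apply Subtype.ext
      exact (hk _).2 ⟨y.1, rfl⟩
    · rintro ⟨⟨x, hx⟩, hx'⟩
      rw [MonoidHom.mem_ker] at hx'
      obtain ⟨a, rfl⟩ := (hk x).1 (congrArg Subtype.val hx')
      rfl
  have e1 : Nat.card (tt (ι → A)) = Nat.card (tt (Fin r → A)) * Nat.card f.ker := by
    rw [Subgroup.card_eq_card_quotient_mul_card_subgroup f.ker,
      Nat.card_congr (QuotientGroup.quotientKerEquivOfSurjective f hf).toEquiv]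
  rw [card_tt_pi ι hc, card_tt_pi (Fin r) hc, hker, Nat.card_eq_fintype_card (α := Fin r), Fintype.card_fin,
    ← pow_succ] at e1
  exact Nat.pow_right_injective le_rfl e1

theorem card_tt_units (K : Type*) [Field K] (h : (2 : K) ≠ 0) : Nat.card (tt Kˣ) = 2 := by
  have hne : (1 : Kˣ) ≠ -1 := by
    intro h1
    have h2 := congrArg Units.val h1
    rw [Units.val_neg, Units.val_one] at h2
    apply h
    have : (1 : K) + 1 = 0 := by
      nth_rewrite 2 [h2]
      ring
    linear_combination this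
  rw [Nat.card_eq_two_iff]
  refine ⟨⟨1, (mem_tt _).2 (one_pow _)⟩, ⟨-1, (mem_tt _).2 (neg_one_sq)⟩, ?_, ?_⟩
  · intro h1
    exact hne (congrArg Subtype.val h1)
  · ext x
    simp only [Set.mem_insert_iff, Set.mem_singleton_iff, Set.mem_univ, iff_true]
    have h1 : x.1 ^ 2 = 1 := (mem_tt _).1 x.2
    have h2 : (x.1 : K) ^ 2 = 1 := by
      rw [← Units.val_pow_eq_pow_val, h1, Units.val_one]
    rcases mul_self_eq_one_iff.1 ((sq _).symm.trans h2) with h3 | h3
    · exact Or.inl (Subtype.ext (Units.ext h3))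
    · exact Or.inr (Subtype.ext (Units.ext (h3.trans (by simp))))

theorem exists_sq_units (K : Type*) [Field K] [IsAlgClosed K] (a : Kˣ) : ∃ b : Kˣ, b ^ 2 = a := by
  obtain ⟨z, hz⟩ := IsAlgClosed.exists_pow_nat_eq (a : K) (n := 2) (by norm_num)
  have h0 : z ≠ 0 := by
    rintro rfl
    rw [zero_pow (by norm_num)] at hz
    exact a.ne_zero hz.symm
  exact ⟨Units.mk0 z h0, Units.ext (by rw [Units.val_pow_eq_pow_val, Units.val_mk0, hz])⟩

theorem card_tt_congr {G H : Type*} [CommGroup G] [CommGroup H] (e : G ≃* H) : Nat.card (tt G) = Nat.card (tt H) :=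
  Nat.card_congr
    { toFun := fun x => ⟨e x.1, (mem_tt _).2 (by rw [← map_pow, (mem_tt _).1 x.2, map_one])⟩
      invFun := fun y => ⟨e.symm y.1, (mem_tt _).2 (by rw [← map_pow, (mem_tt _).1 y.2, map_one])⟩
      left_inv := fun x => Subtype.ext (e.symm_apply_apply _)
      right_inv := fun y => Subtype.ext (e.apply_symm_apply _) }

end count

section chars

variable {r : ℕ} {R : Type*} [CommRing R]

/-- The `j`-th coordinate cocharacter on points. -/
def uch (j : Fin r) (t : Rˣ) : Multiplicative (Fin r → ℤ) →* R :=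
  (Units.coeHom R).comp
    { toFun := fun m => t ^ (Multiplicative.toAdd m j)
      map_one' := zpow_zero t
      map_mul' := fun _ _ => zpow_add t _ _ }

theorem uch_apply (j : Fin r) (t : Rˣ) (m : Multiplicative (Fin r → ℤ)) :
    uch j t m = ((t ^ (Multiplicative.toAdd m j) : Rˣ) : R) := rfl

theorem uch_one (j : Fin r) : uch j (1 : Rˣ) = 1 := by
  refine MonoidHom.ext fun m => ?_
  rw [uch_apply, one_zpow, Units.val_one]
  rfl

theorem comp_uch {R' : Type*} [CommRing R'] (φ : R →+* R') (j : Fin r) (t : Rˣ) :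
    (φ : R →* R').comp (uch j t) = uch j (Units.map (φ : R →* R') t) := by
  refine MonoidHom.ext fun m => ?_
  rw [MonoidHom.comp_apply, uch_apply, uch_apply, ← map_zpow, Units.coe_map]

/-- Characters of `ℤ^r`. -/
def pch (t : Fin r → Rˣ) : Multiplicative (Fin r → ℤ) →* R := ∏ j, uch j (t j)

theorem pch_apply (t : Fin r → Rˣ) (m : Multiplicative (Fin r → ℤ)) :
    pch t m = ((∏ j, t j ^ (Multiplicative.toAdd m j) : Rˣ) : R) := by
  rw [pch, MonoidHom.finsetProd_apply, Units.coe_prod]
  rfl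

theorem pch_mul (t t' : Fin r → Rˣ) : pch (t * t') = pch t * pch t' := by
  refine MonoidHom.ext fun m => ?_
  rw [MonoidHom.mul_apply, pch_apply, pch_apply, pch_apply, ← Units.val_mul, ← Finset.prod_mul_distrib]
  simp only [Pi.mul_apply, mul_zpow]

theorem pch_basis (t : Fin r → Rˣ) (j : Fin r) : pch t (Multiplicative.ofAdd (Pi.single j 1)) = t j := by
  rw [pch_apply, toAdd_ofAdd, Finset.prod_eq_single j]
  · rw [Pi.single_eq_same, zpow_one]
  · intro l _ hl
    rw [Pi.single_eq_of_ne hl, zpow_zero]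
  · intro h
    exact absurd (Finset.mem_univ j) h

theorem exists_pch (χ : Multiplicative (Fin r → ℤ) →* R) : ∃ t : Fin r → Rˣ, pch t = χ := by
  refine ⟨fun j => χ.toHomUnits (Multiplicative.ofAdd (Pi.single j 1)), ?_⟩
  refine MonoidHom.ext fun m => ?_
  rw [pch_apply]
  have h1 : m = ∏ j, (Multiplicative.ofAdd (Pi.single j 1 : Fin r → ℤ)) ^ (Multiplicative.toAdd m j) := by
    apply Multiplicative.toAdd.injective
    rw [toAdd_prod]
    funext l
    simp [Finset.sum_apply, Pi.single_apply]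
  have h2 : χ.toHomUnits m = ∏ j, χ.toHomUnits (Multiplicative.ofAdd (Pi.single j 1)) ^ (Multiplicative.toAdd m j) := by
    conv_lhs => rw [h1]
    rw [map_prod]
    simp only [map_zpow]
  rw [← h2]
  rfl

theorem pch_injective : Function.Injective (pch : (Fin r → Rˣ) → _) := by
  intro t t' h
  funext j
  apply Units.ext
  rw [← pch_basis t j, ← pch_basis t' j, h]

/-- Characters of `ℤ^r` as vectors. -/
noncomputable def pchEquiv (r : ℕ) (R : Type*) [CommRing R] :
    (Fin r → Rˣ) ≃* (Multiplicative (Fin r → ℤ) →* R) :=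
  MulEquiv.mk' (Equiv.ofBijective pch ⟨pch_injective, exists_pch⟩) pch_mul

theorem pchEquiv_apply (t : Fin r → Rˣ) : pchEquiv r R t = pch t := rfl

end chars

end Groth.Agent.PicF.K718
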