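import Groth.Agent.Etdl.H494.GmVal
import Groth.Agent.Etdl.H512.GmModSec

/-!
# Units lift locally along closed immersions

`resGmF i : G_m ⟶ i_* G_m` is an epimorphism for a closed immersion `i`.
-/

set_option autoImplicit false
universe u
open CategoryTheory CategoryTheory.Limits AlgebraicGeometry Opposite

noncomputable section

namespace Groth.Agent.PicF.K718

open Groth.Agent.Etdl.H432.Sec Groth.Agent.Etdl.H432.Un Groth.Agent.Etdl.H494

variable {Y P : Scheme.{u}} (i : Y ⟶ P)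

/-- The sheaf `i_* G_m`. -/
abbrev C : EtFppf.AbF P := (EtFppf.pushBig i).obj (EtDl.GmF Y)

/-- The function attached to a section of `i_* G_m`. -/
def cv {W : Over P} (v : Γs (C i) W) : Γ(pullback W.hom i, ⊤) :=
  (gm (U := (Over.pullback i).obj W) v : O ((Over.pullback i).obj W))

variable {i}

theorem cv_add {W : Over P} (v w : Γs (C i) W) : cv i (v + w) = cv i v * cv i w := rfl

theorem cv_zero {W : Over P} : cv i (0 : Γs (C i) W) = 1 := rfl

theorem cv_injective {W : Over P} : Function.Injective (cv i : Γs (C i) W → _) := fun _ _ h =>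
  gm_injective (U := (Over.pullback i).obj W) (Units.ext h)

theorem isUnit_cv {W : Over P} (v : Γs (C i) W) : IsUnit (cv i v) := Units.isUnit _

theorem exists_cv {W : Over P} (f : Γ(pullback W.hom i, ⊤)) (hf : IsUnit f) : ∃ v : Γs (C i) W, cv i v = f := by
  obtain ⟨u, rfl⟩ := hf
  obtain ⟨v, hv⟩ := gm_surjective (U := (Over.pullback i).obj W) u
  exact ⟨v, congrArg Units.val hv⟩

theorem cv_r {W W' : Over P} (g : W' ⟶ W) (v : Γs (C i) W) :
    cv i (r (C i) g v) = (mapY i g).appTop.hom (cv i v) := by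
  have e : mapY i g = ((Over.pullback i).map g).left := by
    apply pullback.hom_ext
    · exact (pullback.lift_fst _ _ _).trans (pullback.lift_fst _ _ _).symm
    · exact (pullback.lift_snd _ _ _).trans ((Category.comp_id _).trans (pullback.lift_snd _ _ _).symm)
  rw [e]
  rfl

theorem cv_res {W : Over P} (g : Γs (EtDl.GmF P) W) :
    cv i (m (EtDl.resGmF i) W g) = tr i W (gm g : O W) := rfl

/-- Local lifts of units. -/
theorem exists_lift_unit {T Z : Scheme.{u}} (j : Z ⟶ T) [IsClosedImmersion j] (v : Γ(Z, ⊤)) (hv : IsUnit v) (x : T) :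
    ∃ (W : T.Opens) (_ : x ∈ W) (b : Γ(T, W)), IsUnit b ∧ (j.app W).hom b = (Z.presheaf.map (homOfLE le_top).op).hom v := by
  obtain ⟨U, hU, hxU, -⟩ := exists_isAffineOpen_mem_and_subset (x := x) (U := ⊤) trivial
  by_cases hx : x ∈ Set.range j
  · obtain ⟨y, rfl⟩ := hx
    obtain ⟨b, hb⟩ := j.app_surjective U hU ((Z.presheaf.map (homOfLE le_top).op).hom v)
    refine ⟨T.basicOpen b, ?_, (T.presheaf.map (homOfLE (T.basicOpen_le b)).op).hom b, T.toRingedSpace.isUnit_res_basicOpen b, ?_⟩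
    · have h1 : y ∈ j ⁻¹ᵁ T.basicOpen b := by
        rw [Scheme.preimage_basicOpen, hb]
        rw [Scheme.mem_basicOpen Z _ y (show y ∈ j ⁻¹ᵁ U from hxU)]
        exact (hv.map _).map _
      exact h1
    · have h2 : (j.app (T.basicOpen b)).hom ((T.presheaf.map (homOfLE (T.basicOpen_le b)).op).hom b) =
          (Z.presheaf.map (homOfLE (j.preimage_mono (T.basicOpen_le b))).op).hom ((j.app U).hom b) :=
        congr($(j.naturality (homOfLE (T.basicOpen_le b)).op).hom b)
      rw [h2, hb, ← CommRingCat.comp_apply, ← Functor.map_comp]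
      rfl
  · have hcl : IsClosed (Set.range j) := j.isClosedEmbedding.isClosed_range
    refine ⟨⟨(Set.range j)ᶜ, hcl.isOpen_compl⟩, hx, 1, isUnit_one, ?_⟩
    have h1 : j ⁻¹ᵁ (⟨(Set.range j)ᶜ, hcl.isOpen_compl⟩ : T.Opens) = ⊥ := by
      ext z
      constructor
      · intro hz
        exact (hz ⟨z, rfl⟩).elim
      · intro hz
        exact hz.elim
    have h2 : Subsingleton Γ(Z, j ⁻¹ᵁ (⟨(Set.range j)ᶜ, hcl.isOpen_compl⟩ : T.Opens)) := by
      rw [h1]
      infer_instance
    exact Subsingleton.elim _ _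

instance epi_resGmF [IsClosedImmersion i] : Epi (EtDl.resGmF i) := by
  apply Groth.Agent.Etdl.H512.GmModSec.epi_of_local
  intro T s x
  let j := pullback.fst T.hom i
  obtain ⟨W, hxW, b, hb, hbv⟩ := exists_lift_unit j (cv i s) (isUnit_cv s) x
  have hu : IsUnit (W.topIso.inv.hom b) := hb.map _
  obtain ⟨t, ht⟩ := gm_surjective (U := opn T W) hu.unit
  refine ⟨opn T W, opnι T W, inferInstanceAs (Etale W.ι), ⟨⟨x, hxW⟩, rfl⟩, t, ?_⟩
  apply cv_injective (W := opn T W)
  refine (cv_res t).trans (Eq.trans ?_ (cv_r (opnι T W) s).symm)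
  rw [ht, IsUnit.unit_spec]
  let yV := pullback.fst (W.ι ≫ T.hom) i
  let r := mapY i (opnι T W)
  have hr : yV ≫ W.ι = r ≫ j := (mapY_fst i (opnι T W)).symm
  have h0 : (⊤ : W.toScheme.Opens) ≤ W.ι ⁻¹ᵁ W := fun x _ => x.2
  have hle : (⊤ : (pullback (W.ι ≫ T.hom) i).Opens) ≤ (yV ≫ W.ι) ⁻¹ᵁ W := fun x _ => (yV x).2
  have hV : yV.appTop.hom (W.topIso.inv.hom b) = ((yV ≫ W.ι).appLE W ⊤ hle).hom b := by
    rw [topIso_inv_eq W h0, ← Scheme.Hom.appLE_comp_appLE yV W.ι W ⊤ ⊤ h0 le_top, CommRingCat.comp_apply]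
    rw [Scheme.Hom.appTop, Scheme.Hom.app_eq_appLE]
    rfl
  change yV.appTop.hom (W.topIso.inv.hom b) = r.appTop.hom (cv i s)
  rw [hV, appLE_congr_hom hr W ⊤ _ (hr ▸ hle), ← appLE_app_eq, hbv, ← CommRingCat.comp_apply, Scheme.Hom.map_appLE,
    Scheme.Hom.appTop, Scheme.Hom.app_eq_appLE]
  rfl

end Groth.Agent.PicF.K718

end
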