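import Groth.Agent.PicF.K718.NoLine
import Groth.Agent.Sga3.H813.Neutral
import Groth.Agent.AlgGrp.K395.Pts

/-!
# Points of the maximal torus and units of `Y`
-/

set_option autoImplicit false
universe u
open CategoryTheory CategoryTheory.Limits AlgebraicGeometry Opposite MonoidalCategory CartesianMonoidalCategory
  MonObj GrpObj

noncomputable section

namespace Groth.Agent.PicF.K718

open Groth.Agent.Etdl.H432.Sec Groth.Agent.Etdl.H432.Un Groth.Agent.Etdl.H494
  Groth.Agent.Etdl.H494.Gamma K505.RatConst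

section gm

variable {k : Type u} [Field k]

/-- The constant functions. -/
def cY {Z : Scheme.{u}} (f : Z ⟶ Spec (CommRingCat.of k)) : k →+* Γ(Z, ⊤) := cst (Over.mk f)

instance isReduced_gmS : IsReduced (gmS k).left :=
  isReduced_of_isOpenImmersion (gmO k).ι

theorem nonempty_gmO : (gmO k : Set ↑(𝔸(PUnit.{u+1}; Spec (CommRingCat.of k)))).Nonempty := by
  obtain ⟨g, -⟩ := exists_gmS (T := pt k) 1 isUnit_one
  exact ⟨_, (g.left (IsLocalRing.closedPoint k)).2⟩

instance preconnectedSpace_gmS : PreconnectedSpace (gmS k).left := by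
  have h1 : IrreducibleSpace ↑(𝔸(PUnit.{u+1}; Spec (CommRingCat.of k))) := inferInstance
  have h2 : IsPreirreducible (gmO k : Set ↑(𝔸(PUnit.{u+1}; Spec (CommRingCat.of k)))) :=
    (PreirreducibleSpace.isPreirreducible_univ (X := ↑(𝔸(PUnit.{u+1}; Spec (CommRingCat.of k))))).open_subset
      (gmO k).2 (Set.subset_univ _)
  exact isPreconnected_iff_preconnectedSpace.1 h2.isPreconnected

/-- Morphisms from the punctured line to an abelian variety are constant. -/
theorem exists_const_gm (A : Over (Spec (CommRingCat.of k))) [GrpObj A] [IsProper A.hom] (f : gmS k ⟶ A) :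
    ∃ a : pt k ⟶ A, f = cpt _ ≫ a := by
  obtain ⟨a, ha⟩ := const_of_dominated (gmS k) A PUnit.{u+1} (gmO k) nonempty_gmO (𝟙 _) (Category.id_comp _)
    (by
      rw [DenseRange]
      have : Set.range (𝟙 ((gmO k : Scheme.{u}))) = Set.univ := by
        rw [Set.range_eq_univ]
        exact fun x => ⟨x, rfl⟩
      rw [this]
      exact dense_univ) f
  exact ⟨a, ha⟩

/-- A morphism from the punctured line meeting the neutral component factors through it. -/
theorem exists_lift_G0 {G G0 : Over (Spec (CommRingCat.of k))} [GrpObj G] (u : G0 ⟶ G) [IsOpenImmersion u.left]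
    (hu : Set.range u.left = SGA3x.neutralSet G) (f : gmS k ⟶ G) (t : pt k ⟶ gmS k) (ht : t ≫ f = 1) :
    ∃ f' : gmS k ⟶ G0, f' ≫ u = f := by
  have h1 : Set.range f.left ⊆ Set.range u.left := by
    rw [hu]
    have h2 : _root_.IsPreconnected (Set.range f.left) := isPreconnected_range f.left.continuous
    let p : ↥(𝟙_ (Over (Spec (CommRingCat.of k)))).left := IsLocalRing.closedPoint k
    have h3 : η[G].left p ∈ Set.range f.left := by
      have e1 : (η[G] : 𝟙_ (Over (Spec (CommRingCat.of k))) ⟶ G) = t ≫ f := by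
        rw [ht]
        exact one_eq_one _
      rw [e1]
      exact ⟨t.left p, rfl⟩
    have h4 : Set.range f.left ⊆ G.hom ⁻¹' {(𝟙_ (Over (Spec (CommRingCat.of k)))).hom p} := by
      intro z _
      exact Subsingleton.elim _ _
    exact (h2.subset_connectedComponentIn h3 h4).trans
      (Set.subset_iUnion (fun p : ↥(𝟙_ (Over (Spec (CommRingCat.of k)))).left =>
        connectedComponentIn (G.hom ⁻¹' {(𝟙_ (Over (Spec (CommRingCat.of k)))).hom p}) (η[G].left p)) p)
  refine ⟨Over.homMk (IsOpenImmersion.lift u.left f.left h1) ?_, ?_⟩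
  · rw [← Over.w u, IsOpenImmersion.lift_fac_assoc, Over.w]
  · ext1
    exact IsOpenImmersion.lift_fac _ _ _

end gm

variable {k : Type u} [Field k] [IsAlgClosed k] {Y P : Scheme.{u}} {i : Y ⟶ P} {π : P ⟶ Spec (CommRingCat.of k)}
  [IsProper π] [Smooth π] [IsIntegral P] [IsClosedImmersion i] [IsReduced Y]
  {G : Over (Spec (CommRingCat.of k))} [GrpObj G] [IsCommMonObj G]
  (e : CGrpSh.pts Scheme.fppfPrecoverage G ≅ Jc π i)
  {G0 T A : Over (Spec (CommRingCat.of k))} [GrpObj G0] [GrpObj T] [GrpObj A]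
  (u : G0 ⟶ G) [IsMonHom u] (j : T ⟶ G0) [IsMonHom j] (q : G0 ⟶ A) [IsMonHom q]

include e in
/-- Values of the one-parameter families attached to idempotents lie in the torus. -/
theorem exists_pt_of_idem [IsOpenImmersion u.left] (hu : Set.range u.left = SGA3x.neutralSet G)
    [IsProper A.hom] (hk : AlgGrp.IsKernel j q) (d : Γ(Y, ⊤)) (hd : d * d = d) (a : kˣ)
    (v : Γs (C i) (PO π (pt k))) (hv : fn v = 1 + d * (cY (i ≫ π) a - 1)) :
    ∃ x : pt k ⟶ T, pv e (x ≫ j ≫ u) = dl π v := by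
  obtain ⟨w, hw⟩ := exists_wd (i := i) (π := π) d hd
  obtain ⟨W, hW⟩ := exists_pv e (dl π w)
  obtain ⟨t₁, ht₁⟩ := exists_gmS (T := pt k) 1 isUnit_one
  have h1 : t₁ ≫ W = 1 := by
    apply pv_injective e
    rw [← r_pv, hW, ← dl_r, pv_one]
    have : r (C i) (POm π t₁) w = 0 := by
      apply fn_injective
      rw [hw, ht₁, map_one, sub_self, mul_zero, add_zero, fn_zero]
    rw [this, map_zero]
  obtain ⟨W', hW'⟩ := exists_lift_G0 u hu W t₁ h1
  have hm : Mono u := (Over.forget _).mono_of_mono_map (inferInstanceAs (Mono u.left))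
  have h2 : t₁ ≫ W' = 1 := by
    rw [← cancel_mono u, Category.assoc, hW', h1, MonObj.one_comp]
  obtain ⟨b, hb⟩ := exists_const_gm A (W' ≫ q)
  have h3 : b = 1 := by
    have h4 := congrArg (t₁ ≫ ·) hb
    beta_reduce at h4
    rw [← Category.assoc, h2, MonObj.one_comp, ← Category.assoc, comp_cpt, cpt_pt (cpt (pt k)), Category.id_comp] at h4
    exact h4.symm
  obtain ⟨W'', hW''⟩ := K395.Pts.exists_of_comp_eq_one hk W' (by rw [hb, h3, MonObj.comp_one])
  obtain ⟨t, ht⟩ := exists_gmS (T := pt k) (cst _ (a : k)) (a.isUnit.map _)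
  refine ⟨t ≫ W'', ?_⟩
  have h5 : (t ≫ W'') ≫ j ≫ u = t ≫ W := by
    rw [Category.assoc, ← Category.assoc W'', hW'', hW']
  rw [h5, ← r_pv, hW, ← dl_r]
  congr 1
  apply fn_injective
  rw [hw, ht, hv, cst_Y]
  rfl

omit [IsReduced Y] in
include e in
/-- Points of the torus come from units of `Y`. -/
theorem exists_unit_of_pt [Nonempty Y] {n : ℕ} (h : Red.IsSplitTorusWith (Fin n → ℤ) T) (x : pt k ⟶ T) :
    ∃ v : Γs (C i) (PO π (pt k)), dl π v = pv e (x ≫ j ≫ u) := by
  refine tpts_induction h (fun x => ∃ v : Γs (C i) (PO π (pt k)), dl π v = pv e (x ≫ j ≫ u)) ?_ ?_ ?_ x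
  · exact ⟨0, by rw [map_zero, ← Category.assoc, MonObj.one_comp, MonObj.one_comp, pv_one]⟩
  · rintro x y ⟨v, hv⟩ ⟨w, hw⟩
    refine ⟨v + w, ?_⟩
    rw [map_add, hv, hw, ← pv_mul, ← Category.assoc (x * y), MonObj.mul_comp, MonObj.mul_comp, Category.assoc,
      Category.assoc]
  · intro φ t₁ t h1
    obtain ⟨v, hv⟩ := exists_dl_pv e (gmj k) t₁ (φ ≫ j ≫ u) (by
      rw [← Category.assoc, h1, ← Category.assoc, MonObj.one_comp, MonObj.one_comp])
    refine ⟨r (C i) (POm π t) v, ?_⟩
    rw [dl_r, hv, r_pv, Category.assoc]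

end Groth.Agent.PicF.K718

end
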