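import Groth.Agent.PicF.K718.LineTriv
import Groth.Agent.PicF.K662.OpenAff
import Groth.Agent.Sga3.H780.PointedProd
import Groth.Agent.Grpsch.CubePush
import Groth.Agent.VarietyA.RegSmoothSch
import Groth.Agent.S2821

/-!
# Geometry of `T × P` and `T × Y`

* functions on `T × P` come from `T`, hence `π_* G_m(m) = 0` if `Y` is not empty;
* `Pic P ⟶ Pic (U × P)` is surjective for `U` open in an affine space;
* slices: `sl y v`, the function on `T` obtained by restriction of `v` to `T × y`.
-/

set_option autoImplicit false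
universe u
open CategoryTheory CategoryTheory.Limits AlgebraicGeometry Opposite

noncomputable section

namespace Groth.Agent.PicF.K718

open Groth.Agent.Etdl.H432.Sec Groth.Agent.Etdl.H432.Un Groth.Agent.Etdl.H494
  Groth.Agent.Etdl.H494.Gamma Groth.Agent.Grpsch.PicGrp

variable {k : Type u} [Field k] {Y P : Scheme.{u}} {i : Y ⟶ P} {π : P ⟶ Spec (CommRingCat.of k)}

/-- Functions on `T × P` come from `T`. -/
theorem bijective_fst [IsAlgClosed k] [IsProper π] [Smooth π] [IsIntegral P] (T : Over (Spec (CommRingCat.of k))) :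
    Function.Bijective (pullback.fst T.hom π).appTop.hom := by
  have : IsIntegral (Over.mk π).left := ‹IsIntegral P›
  have : Smooth (Over.mk π).hom := ‹Smooth π›
  have : GeometricallyIntegral π := Sga3.H780.PointedProd.geometricallyIntegral (Over.mk π)
  exact Grpsch.CubeData.bijective_appTop _

/-- The slice `T × y ⟶ T × Y`. -/
def slc (T : Over (Spec (CommRingCat.of k))) (y : Spec (CommRingCat.of k) ⟶ Y) (hy : y ≫ i ≫ π = 𝟙 _) :
    T.left ⟶ pullback (PO π T).hom i :=
  pullback.lift (pullback.lift (𝟙 _) (T.hom ≫ y ≫ i) (by simp [hy])) (T.hom ≫ y)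
    ((pullback.lift_snd _ _ _).trans (Category.assoc _ _ _).symm)

theorem slc_fst (T : Over (Spec (CommRingCat.of k))) (y : Spec (CommRingCat.of k) ⟶ Y) (hy : y ≫ i ≫ π = 𝟙 _) :
    slc T y hy ≫ pullback.fst (PO π T).hom i ≫ pullback.fst T.hom π = 𝟙 _ := by
  rw [slc, pullback.lift_fst_assoc]
  exact pullback.lift_fst _ _ _

theorem slc_snd (T : Over (Spec (CommRingCat.of k))) (y : Spec (CommRingCat.of k) ⟶ Y) (hy : y ≫ i ≫ π = 𝟙 _) :
    slc T y hy ≫ pullback.snd (PO π T).hom i = T.hom ≫ y := pullback.lift_snd _ _ _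

/-- Restriction to `T × y`. -/
def sl {T : Over (Spec (CommRingCat.of k))} (y : Spec (CommRingCat.of k) ⟶ Y) (hy : y ≫ i ≫ π = 𝟙 _)
    (v : Γs (C i) (PO π T)) : O T := (slc T y hy).appTop.hom (cv i v)

theorem pb_ext {T : Over (Spec (CommRingCat.of k))} [Mono i] {Z : Scheme.{u}} {f g : Z ⟶ pullback (PO π T).hom i}
    (h1 : f ≫ pullback.fst (PO π T).hom i ≫ pullback.fst T.hom π =
      g ≫ pullback.fst (PO π T).hom i ≫ pullback.fst T.hom π)
    (h2 : f ≫ pullback.snd (PO π T).hom i = g ≫ pullback.snd (PO π T).hom i) : f = g := by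
  apply pullback.hom_ext _ h2
  apply pullback.hom_ext
  · rw [Category.assoc, Category.assoc]
    exact h1
  · have h3 : pullback.fst (PO π T).hom i ≫ (PO π T).hom = pullback.snd (PO π T).hom i ≫ i := pullback.condition
    have h4 := congrArg (· ≫ i) h2
    simp only [Category.assoc] at h4
    rw [← h3] at h4
    rw [Category.assoc, Category.assoc]
    exact h4

theorem slc_mapY [Mono i] {T T' : Over (Spec (CommRingCat.of k))} (g : T' ⟶ T) (y : Spec (CommRingCat.of k) ⟶ Y)
    (hy : y ≫ i ≫ π = 𝟙 _) : slc T' y hy ≫ mapY i (POm π g) = g.left ≫ slc T y hy := by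
  apply pb_ext
  · rw [Category.assoc, Category.assoc, slc_fst, Category.comp_id, ← Category.assoc (mapY i (POm π g)), mapY_fst]
    have e : (POm π g).left ≫ pullback.fst T.hom π = pullback.fst T'.hom π ≫ g.left := pullback.lift_fst _ _ _
    rw [Category.assoc, e]
    have := slc_fst T' y hy
    rw [← Category.assoc, ← Category.assoc, Category.assoc (slc T' y hy), this, Category.id_comp]
  · rw [Category.assoc, Category.assoc, slc_snd, mapY]
    have e : ∀ (h1 : (PO π T').hom ≫ 𝟙 _ = (POm π g).left ≫ (PO π T).hom) (h2 : i ≫ 𝟙 _ = 𝟙 _ ≫ i),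
        pullback.map (PO π T').hom i (PO π T).hom i (POm π g).left (𝟙 _) (𝟙 _) h1 h2 ≫
        pullback.snd (PO π T).hom i = pullback.snd (PO π T').hom i := by
      intro h1 h2
      rw [pullback.lift_snd, Category.comp_id]
    rw [e, slc_snd, ← Category.assoc, Over.w]

theorem sl_r [Mono i] {T T' : Over (Spec (CommRingCat.of k))} (g : T' ⟶ T) (y : Spec (CommRingCat.of k) ⟶ Y)
    (hy : y ≫ i ≫ π = 𝟙 _) (v : Γs (C i) (PO π T)) : sl y hy (r (C i) (POm π g) v) = ro g (sl y hy v) := by
  rw [sl, cv_r]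
  have e := congrArg (fun φ => (Scheme.Hom.appTop φ).hom (cv i v)) (slc_mapY g y hy)
  simp only [Scheme.Hom.comp_appTop] at e
  exact e

theorem isUnit_sl {T : Over (Spec (CommRingCat.of k))} (y : Spec (CommRingCat.of k) ⟶ Y) (hy : y ≫ i ≫ π = 𝟙 _)
    (v : Γs (C i) (PO π T)) : IsUnit (sl y hy v) := (isUnit_cv v).map _

/-- `π_* G_m(m) = 0`. -/
theorem eq_zero_of_point [IsAlgClosed k] [IsProper π] [Smooth π] [IsIntegral P] (y : Spec (CommRingCat.of k) ⟶ Y)
    (hy : y ≫ i ≫ π = 𝟙 _) (T : Over (Spec (CommRingCat.of k))) (s : Γs (F i) (PO π T)) : s = 0 := by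
  obtain ⟨a, ha⟩ := (bijective_fst (π := π) T).2 (un i s)
  have h1 : tr i (PO π T) (un i s) = 1 := tr_un s
  have h2 : (slc T y hy ≫ pullback.fst (PO π T).hom i ≫ pullback.fst T.hom π).appTop.hom a = 1 := by
    rw [Scheme.Hom.comp_appTop, Scheme.Hom.comp_appTop]
    change (slc T y hy).appTop.hom ((pullback.fst (PO π T).hom i).appTop.hom ((pullback.fst T.hom π).appTop.hom a)) = 1
    rw [ha]
    refine (congrArg (slc T y hy).appTop.hom h1).trans (map_one _)
  rw [slc_fst] at h2
  have h3 : a = 1 := by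
    rw [← h2]
    simp
  apply un_injective
  rw [un_zero, ← ha, h3, map_one]

/-- Smooth schemes over a field are normal. -/
theorem isNormalScheme_of_smooth {X : Scheme.{u}} (f : X ⟶ Spec (CommRingCat.of k)) [Smooth f] :
    Pi1.IsNormalScheme X := by
  intro x
  have h1 : IsRegularLocalRing (X.presheaf.stalk x) :=
    VarietyA.RegSmoothSch.isRegularLocalRing_stalk_of_mem_smoothLocus f x
      (by rw [f.smoothLocus_eq_top]; trivial)
  obtain ⟨h2, h3⟩ := Groth.Agent.S2821.result (X.presheaf.stalk x)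
  exact ⟨h2, inferInstance⟩

/-- `Pic P ⟶ Pic (U × P)` is surjective for `U` open in an affine space. -/
theorem exists_pull [Smooth π] {n : Type u} [Finite n] (U : Over (Spec (CommRingCat.of k)))
    (j : U.left ⟶ 𝔸(n; Spec (CommRingCat.of k))) [IsOpenImmersion j] (hj : j ≫ (𝔸(n; Spec (CommRingCat.of k)) ↘ _) = U.hom)
    (u₀ : pt k ⟶ U) (c : Pic (PT π U)) : ∃ d : Pic P, pull (pullback.snd U.hom π) d = c := by
  have : IsLocallyNoetherian P := LocallyOfFiniteType.isLocallyNoetherian π
  have sq : IsPullback (pullback.fst U.hom π) (pullback.snd U.hom π) (j ≫ (𝔸(n; Spec (CommRingCat.of k)) ↘ _)) π := by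
    rw [hj]
    exact IsPullback.of_hasPullback _ _
  refine K662.OpenAff.exists_pull sq (K662.OpenAff.surjective_of_section (σ := pullback.lift (π ≫ u₀.left) (𝟙 P) ?_) ?_)
    (isNormalScheme_of_smooth π) c
  · have h1 : u₀.left ≫ U.hom = 𝟙 _ := Over.w u₀
    rw [Category.assoc, h1, Category.id_comp]
    exact Category.comp_id _
  · exact pullback.lift_snd _ _ _

end Groth.Agent.PicF.K718

end
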