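import Groth.Agent.Flat2H.FamRestrict
import Groth.Agent.Grpsch.PicGrp

/-!
# Trivial line bundles and coboundaries
-/

set_option autoImplicit false
universe u
open CategoryTheory CategoryTheory.Limits AlgebraicGeometry Opposite TopologicalSpace

namespace Groth.Agent.PicF.K718

open Groth.Agent.Fdesc.LocGen Groth.Agent.Flat2H.FamExt Groth.Agent.Flat2H.FamDict Groth.Agent.Grpsch.PicGrp

variable {X : Scheme.{u}} {ι : Type*} {L : X.Modules} {W : ι → X.Opens} {g : ∀ i j, Γ(X, W i ⊓ W j)}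

theorem isIso_of_genLocus (s : Coh.structureModule X ⟶ L)
    (h : CohB1.genLocus L s = ⊤) : IsIso s := by
  have h1 := isGen_sec_genLocus s
  rw [isIso_iff_isGen]
  have key : ∀ U : X.Opens, U = ⊤ → IsGen (sec s U) → IsGen (sec s ⊤) := by
    rintro U rfl h; exact h
  exact key _ h h1

theorem mk_eq_one_of_fam (h : Trivs L W g) (b : ∀ j, Γ(X, W j)) (hu : ∀ j, IsUnit (b j)) (hb : IsFam W g b) :
    mk L h.isInvertible = 1 := by
  obtain ⟨s, hs⟩ := h.exists_sec b hb
  have h1 : CohB1.genLocus L s = ⊤ := by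
    rw [hs, ← h.iSup_eq]
    refine iSup_congr fun j => ?_
    exact X.basicOpen_of_isUnit (hu j)
  have := isIso_of_genLocus s h1
  exact (mk_eq_one_iff _).2 ⟨(asIso s).symm⟩

theorem exists_fam_of_mk (h : Trivs L W g) (h1 : mk L h.isInvertible = 1) :
    ∃ b : ∀ j, Γ(X, W j), (∀ j, IsUnit (b j)) ∧ IsFam W g b := by
  obtain ⟨φ⟩ := (mk_eq_one_iff _).1 h1
  let s : Coh.structureModule X ⟶ L := φ.inv
  have h2 : IsGen (sec s ⊤) := (isIso_iff_isGen s).1 inferInstance
  obtain ⟨h0, e, he, hg⟩ := h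
  have h3 : ∀ j, IsGen (sec s (W j)) := fun j => by
    rw [← res_sec s (le_top : W j ≤ ⊤)]
    exact h2.res _
  choose b hbu hb using fun j => (he j).exists_unit (h3 j)
  refine ⟨b, hbu, fun i j => ?_⟩
  have h1 : res L inf_le_left (sec s (W i)) = res L (inf_le_right : W i ⊓ W j ≤ W j) (sec s (W j)) := by
    rw [res_sec, res_sec]
  rw [hb i, hb j, res_smul, res_smul, hg i j, smul_smul] at h1
  exact ((he j).res inf_le_right).ext h1

end Groth.Agent.PicF.K718
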