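import Groth.Agent.PicF.K718.Surj
import Groth.Agent.PicF.K718.TrivsPic

/-!
# Classes on `U` which vanish at a point come from units on `Y_U`

Assume `Pic X ⟶ Pic (X × U)` is surjective.
-/

set_option autoImplicit false
universe u
open CategoryTheory CategoryTheory.Limits AlgebraicGeometry Opposite

noncomputable section

namespace Groth.Agent.PicF.K718

open Groth.Agent.Etdl.H432.Sec Groth.Agent.Etdl.H432.Un Groth.Agent.Etdl.H432.LS Groth.Agent.Etdl.H494
  Groth.Agent.Etdl.H494.Gamma Groth.Agent.Flat2H.FamExt Groth.Agent.Flat2H.FamDict Groth.Agent.Grpsch.PicGrp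
open Groth.Agent.Etdl.H432.IQ (Q I α β β_α α_injective exists_α αβ)

section gv

variable {P Y : Scheme.{u}} {i : Y ⟶ P}

/-- The function on `V` of a section of `G_m` over the open subscheme `V` of `Z`. -/
def gv {Z : Over P} {V : Z.left.Opens} (s : Γs (EtDl.GmF P) (opn Z V)) : Γ(Z.left, V) :=
  V.topIso.hom.hom (gm s : O (opn Z V))

theorem gv_add {Z : Over P} {V : Z.left.Opens} (s t : Γs (EtDl.GmF P) (opn Z V)) :
    gv (s + t) = gv s * gv t := by
  rw [gv, gm_add, Units.val_mul, map_mul]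
  rfl

theorem gv_injective {Z : Over P} {V : Z.left.Opens} : Function.Injective (gv (Z := Z) (V := V)) :=
  (topIso_hom_injective V).comp (Units.val_injective.comp gm_injective)

theorem gv_rs {Z Z' : Over P} (k : Z' ⟶ Z) (V : Z.left.Opens) (V' : Z'.left.Opens) (h : V' ≤ k.left ⁻¹ᵁ V)
    (s : Γs (EtDl.GmF P) (opn Z V)) :
    gv (r (EtDl.GmF P) (opnMap k V V' h) s) = (k.left.appLE V V' h).hom (gv s) := by
  rw [gv, gm_r]
  have e : (k.left.resLE V V' h).appTop ≫ V'.topIso.hom = V.topIso.hom ≫ k.left.appLE V V' h := by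
    rw [Scheme.Hom.appTop, Scheme.Hom.resLE_app_top, Category.assoc, Category.assoc, Iso.inv_hom_id,
      Category.comp_id]
  exact congr($(e).hom (gm s : O (opn Z V)))

theorem gv_opnLE {Z : Over P} {V V' : Z.left.Opens} (h : V' ≤ V) (s : Γs (EtDl.GmF P) (opn Z V)) :
    gv (r (EtDl.GmF P) (opnLE h) s) = res h (gv s) := by
  rw [gv_rs]
  congr 1

theorem gv_incl {Z : Over P} {V : Z.left.Opens} (s : Γs (F i) (opn Z V)) : gv (m (incl i) _ s) = val s := rfl

theorem exists_gv {Z : Over P} {V : Z.left.Opens} (u : Γ(Z.left, V)) (hu : IsUnit u) :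
    ∃ s : Γs (EtDl.GmF P) (opn Z V), gv s = u := by
  have h : IsUnit (V.topIso.inv.hom u) := hu.map _
  obtain ⟨s, hs⟩ := gm_surjective (U := opn Z V) h.unit
  refine ⟨s, ?_⟩
  rw [gv, hs, IsUnit.unit_spec, ← CommRingCat.comp_apply, Iso.inv_hom_id]
  rfl

end gv

variable {k : Type u} [Field k] [IsAlgClosed k] {Y P : Scheme.{u}} {i : Y ⟶ P} [IsClosedImmersion i]
  {π : P ⟶ Spec (CommRingCat.of k)}

variable (k) in
/-- The base as an object over itself. -/
abbrev pt : Over (Spec (CommRingCat.of k)) := Over.mk (𝟙 (Spec (CommRingCat.of k)))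

omit [IsAlgClosed k] [IsClosedImmersion i] in
theorem coc_self {T : Over (Spec (CommRingCat.of k))} (c : Cocycle π i T) (a : c.A) : c.u a a = 1 := by
  have h := c.cocycle a a a (c.V a ⊓ c.V a) inf_le_left inf_le_left inf_le_left
  have h1 : ∀ h : c.V a ⊓ c.V a ≤ c.V a ⊓ c.V a, res h (c.u a a) = c.u a a := by
    intro h
    change ((PT π T).presheaf.map (𝟙 _)).hom (c.u a a) = _
    rw [CategoryTheory.Functor.map_id]
    rfl
  rw [h1] at h
  exact (c.isUnit a a).mul_left_cancel (h.trans (mul_one _).symm)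

/-- The line bundle of a class vanishing at a point is trivial at this point. -/
theorem trivial_at {U : Over (Spec (CommRingCat.of k))} (q : Γs (Q i) (PO π U)) (c : Cocycle π i U)
    (b : ∀ a, Γs (I i) (opn (PO π U) (c.V a))) (s : ∀ a b, Γs (F i) (opn (PO π U) (c.V a ⊓ c.V b)))
    (hb : ∀ a, IsLift q (opnι (PO π U) (c.V a)) (b a)) (hs : ∀ a b, val (s a b) = c.u a b)
    (hd : ∀ a a', r (I i) (opnLE inf_le_left) (b a) - r (I i) (opnLE inf_le_right) (b a') = m (α i) _ (s a a'))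
    {L : (PT π U).Modules} (hL : Trivs L c.V c.u) (u₀ : pt k ⟶ U) (h0 : cl π (r (Q i) (POm π u₀) q) = 0) :
    pull (PTmap π u₀) (mk L hL.isInvertible) = 1 := by
  obtain ⟨b₀, hb₀⟩ := exists_of_cl_eq_zero_pt _ h0
  have h1 : ∀ a, ∃ f : Γs (F i) (opn (PO π (pt k)) (PTmap π u₀ ⁻¹ᵁ c.V a)),
      m (α i) _ f = r (I i) (opnMap (POm π u₀) (c.V a) (PTmap π u₀ ⁻¹ᵁ c.V a) le_rfl) (b a) -
        r (I i) (opnι (PO π (pt k)) (PTmap π u₀ ⁻¹ᵁ c.V a)) b₀ := by
    intro a
    apply exists_α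
    rw [map_sub, m_r, m_r, hb a, hb₀, r_r, r_r, opnMap_opnι, sub_self]
  choose f hf using h1
  have hT := hL.pullback (PTmap π u₀)
  refine mk_eq_one_of_fam hT (fun a => val (-f a)) (fun a => val_isUnit _) ?_
  intro a a'
  have key : r (F i) (opnLE inf_le_left) (-f a) + r (F i) (opnMap (POm π u₀) (c.V a ⊓ c.V a')
      (PTmap π u₀ ⁻¹ᵁ c.V a ⊓ PTmap π u₀ ⁻¹ᵁ c.V a') le_rfl) (s a a') = r (F i) (opnLE inf_le_right) (-f a') := by
    apply α_injective
    have hf' : ∀ a, m (α i) _ (-f a) = r (I i) (opnι (PO π (pt k)) (PTmap π u₀ ⁻¹ᵁ c.V a)) b₀ -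
        r (I i) (opnMap (POm π u₀) (c.V a) (PTmap π u₀ ⁻¹ᵁ c.V a) le_rfl) (b a) := by
      intro a
      rw [map_neg, hf, neg_sub]
    rw [map_add, m_r, m_r, m_r, ← hd, hf', hf']
    simp only [map_sub, r_r, opnMap_comp, opnLE_opnι, Category.id_comp, Category.comp_id]
    abel
  have key2 := congrArg val key
  rw [val_add, val_opnLE, val_opnLE, val_rs, hs] at key2
  beta_reduce
  rw [Scheme.Hom.app_eq_appLE]
  exact key2

theorem unit_aux {R : Type u} [CommRing R] {u B B' g g' : R} (e1 : B * g = 1) (e2 : B' * g' = 1) (e3 : B * u = B') :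
    u * g' = g := by
  rw [← e3] at e2
  calc u * g' = (B * g) * (u * g') := by rw [e1, one_mul]
    _ = (B * u * g') * g := by ring
    _ = g := by rw [e2, one_mul]

/-- A class with trivial line bundle comes from units on `Y`. -/
theorem exists_of_triv {Z : Over P} {A : Type u} (V : A → Z.left.Opens) (cov : ∀ x, ∃ a, x ∈ V a)
    (w : ∀ a b, Γ(Z.left, V a ⊓ V b)) (q : Γs (Q i) Z)
    (b : ∀ a, Γs (I i) (opn Z (V a))) (s : ∀ a b, Γs (F i) (opn Z (V a ⊓ V b)))
    (hb : ∀ a, IsLift q (opnι Z (V a)) (b a)) (hs : ∀ a b, val (s a b) = w a b)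
    (hd : ∀ a a', r (I i) (opnLE inf_le_left) (b a) - r (I i) (opnLE inf_le_right) (b a') = m (α i) _ (s a a'))
    (f : ∀ a, Γ(Z.left, V a)) (hu : ∀ a, IsUnit (f a))
    (hf : ∀ a a', res inf_le_left (f a) * w a a' = res inf_le_right (f a')) :
    ∃ (b' : Γs (I i) Z) (v : Γs (C i) Z), q = m (β i) _ b' + m (hQ i) _ v := by
  have h1 : ∀ a, ∃ g : Γs (EtDl.GmF P) (opn Z (V a)), f a * gv g = 1 := by
    intro a
    obtain ⟨w, hw⟩ := hu a
    obtain ⟨g, hg⟩ := exists_gv (Z := Z) (V := V a) (↑w⁻¹ : Γ(Z.left, V a)) (Units.isUnit _)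
    exact ⟨g, by rw [hg, ← hw, Units.mul_inv]⟩
  choose g hg using h1
  have h2 : ∀ a a', m (incl i) _ (s a a') + r (EtDl.GmF P) (opnLE inf_le_right) (g a') =
      r (EtDl.GmF P) (opnLE inf_le_left) (g a) := by
    intro a a'
    apply gv_injective
    rw [gv_add, gv_incl, hs, gv_opnLE, gv_opnLE]
    exact unit_aux (by rw [← map_mul, hg, map_one]) (by rw [← map_mul, hg, map_one]) (hf a a')
  obtain ⟨b', hb'⟩ := glueOpen (I i) V cov (fun a => b a - m (hI i) _ (g a)) (by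
    intro a a'
    have e1 := hd a a'
    rw [← hI_incl] at e1
    have e2 := congrArg (m (hI i) _) (h2 a a')
    rw [map_add, m_r, m_r] at e2
    rw [map_sub, map_sub, ← e2, ← e1]
    abel)
  obtain ⟨v, hv⟩ := glueOpen (C i) V cov (fun a => m (EtDl.resGmF i) _ (g a)) (by
    intro a a'
    have e2 := congrArg (m (EtDl.resGmF i) _) (h2 a a')
    rw [map_add, m_r, m_r, res_incl, zero_add] at e2
    exact e2.symm)
  refine ⟨b', v, ?_⟩
  apply eq_of_openCover (Q i) V cov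
  intro a
  rw [map_add, ← m_r, ← m_r, hb', hv, map_sub, ← hQ_res, hb a]
  abel

theorem exists_dl (h0 : ∀ (T : Over (Spec (CommRingCat.of k))) (s : Γs (F i) (PO π T)), s = 0)
    {U : Over (Spec (CommRingCat.of k))}
    (hPic : ∀ c : Pic (PT π U), ∃ d : Pic P, pull (pullback.snd U.hom π) d = c)
    (u₀ : pt k ⟶ U) (ξ : Γs (Jc π i) U) (hξ : r (Jc π i) u₀ ξ = 0) :
    ∃ v : Γs (C i) (PO π U), dl π v = ξ := by
  obtain ⟨q, rfl⟩ := exists_cl_eq h0 ξ
  obtain ⟨c, b, s, hb, hs, hd⟩ := exists_coc q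
  obtain ⟨L, hL⟩ := Groth.Agent.Flat2H.FamRestrict.exists_trivs_of_cocycle c.V c.cover c.u (coc_self c)
    (fun a b d V ha hb hd => c.cocycle a b d V ha hb hd)
  have h1 := trivial_at q c b s hb hs hd hL u₀ (by rw [cl_r, hξ])
  obtain ⟨d, hd'⟩ := hPic (mk L hL.isInvertible)
  let σ : P ⟶ PT π (pt k) := pullback.lift π (𝟙 P) (by simp)
  have hσ : σ ≫ pullback.snd (pt k).hom π = 𝟙 P := pullback.lift_snd _ _ _
  have h2 : d = 1 := by
    rw [← hd', ← pull_comp, PTmap_snd] at h1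
    have h3 := congrArg (pull σ) h1
    rwa [← pull_comp, hσ, pull_id, map_one] at h3
  rw [h2, map_one] at hd'
  obtain ⟨f, hu, hf⟩ := exists_fam_of_mk hL hd'.symm
  obtain ⟨b', v, h3⟩ := exists_of_triv (Z := PO π U) c.V c.cover c.u q b s hb hs hd f hu hf
  refine ⟨v, ?_⟩
  rw [h3, map_add, cl_β, zero_add, dl_apply]

end Groth.Agent.PicF.K718

end
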