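import Groth.Agent.AbVar.K505.RatConst
import Groth.Agent.PicF.K718.LineTriv

/-!
# The affine line and the punctured line
-/

set_option autoImplicit false
universe u
open CategoryTheory CategoryTheory.Limits AlgebraicGeometry Opposite MonoidalCategory CartesianMonoidalCategory

noncomputable section

namespace Groth.Agent.PicF.K718

open Groth.Agent.Etdl.H432.Sec K505.RatConst

variable {k : Type u} [Field k]

/-- The constant functions. -/
def cst (T : Over (Spec (CommRingCat.of k))) : k →+* O T :=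
  T.hom.appTop.hom.comp (Scheme.ΓSpecIso (CommRingCat.of k)).inv.hom

theorem ro_cst {T T' : Over (Spec (CommRingCat.of k))} (g : T' ⟶ T) (a : k) : ro g (cst T a) = cst T' a := by
  have h := congrArg (fun φ => (Scheme.Hom.appTop φ).hom ((Scheme.ΓSpecIso (CommRingCat.of k)).inv.hom a)) (Over.w g)
  simp only [Scheme.Hom.comp_appTop] at h
  exact h

/-- Units of the affine line are constant. -/
theorem exists_cst_of_isUnit (f : O (aff k PUnit.{u+1})) (hf : IsUnit f) : ∃ a : k, cst _ a = f := by
  let e := AffineSpace.SpecIso PUnit.{u+1} (CommRingCat.of k)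
  let A := CommRingCat.of (MvPolynomial PUnit.{u+1} k)
  let q : MvPolynomial PUnit.{u+1} k := (Scheme.ΓSpecIso A).hom.hom (e.inv.appTop.hom f)
  have h1 : IsUnit q := (hf.map e.inv.appTop.hom).map (Scheme.ΓSpecIso A).hom.hom
  obtain ⟨a, -, ha⟩ := (MvPolynomial.isUnit_iff_eq_C_of_isReduced).1 h1
  refine ⟨a, ?_⟩
  have e1 : e.inv ≫ (𝔸(PUnit.{u+1}; Spec (CommRingCat.of k)) ↘ Spec (CommRingCat.of k)) =
      Spec.map (CommRingCat.ofHom MvPolynomial.C) := AffineSpace.SpecIso_inv_over _
  have h2 : (Scheme.ΓSpecIso A).hom.hom (e.inv.appTop.hom (cst (aff k PUnit.{u+1}) a)) = MvPolynomial.C a := by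
    have h3 : e.inv.appTop.hom (cst (aff k PUnit.{u+1}) a) =
        (Spec.map (CommRingCat.ofHom (MvPolynomial.C (R := k) (σ := PUnit.{u+1})))).appTop.hom
          ((Scheme.ΓSpecIso (CommRingCat.of k)).inv.hom a) := by
      rw [← e1, Scheme.Hom.comp_appTop]
      rfl
    rw [h3]
    have h4 := Scheme.ΓSpecIso_inv_naturality (CommRingCat.ofHom (MvPolynomial.C (R := k) (σ := PUnit.{u+1})))
    have h5 := congrArg (fun φ => (Scheme.ΓSpecIso A).hom.hom (φ.hom a)) h4
    simp only [CommRingCat.hom_comp, RingHom.comp_apply] at h5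
    rw [← h5]
    exact congr($((Scheme.ΓSpecIso A).inv_hom_id).hom _)
  have i1 : Function.Injective (Scheme.ΓSpecIso A).hom.hom := (ConcreteCategory.bijective_of_isIso (Scheme.ΓSpecIso A).hom).1
  have i2 : Function.Injective e.inv.appTop.hom := by
    intro x y h
    have h1 := congrArg e.hom.appTop.hom h
    have h2 : ∀ z, e.hom.appTop.hom (e.inv.appTop.hom z) = z := by
      intro z
      have h3 := congrArg (fun φ => (Scheme.Hom.appTop φ).hom z) e.hom_inv_id
      simp only [Scheme.Hom.comp_appTop, Scheme.Hom.id_appTop] at h3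
      exact h3
    rwa [h2, h2] at h1
  exact i2 (i1 (h2.trans ha.symm))

variable (k) in
/-- The complement of the origin in the affine line. -/
def gmO : (𝔸(PUnit.{u+1}; Spec (CommRingCat.of k))).Opens :=
  (𝔸(PUnit.{u+1}; Spec (CommRingCat.of k))).basicOpen (AffineSpace.coord _ PUnit.unit)

variable (k) in
/-- The punctured line. -/
abbrev gmS : Over (Spec (CommRingCat.of k)) :=
  Over.mk ((gmO k).ι ≫ (𝔸(PUnit.{u+1}; Spec (CommRingCat.of k)) ↘ Spec (CommRingCat.of k)))

variable (k) in
/-- The inclusion in the affine line. -/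
def gmj : gmS k ⟶ aff k PUnit.{u+1} := Over.homMk (gmO k).ι rfl

instance : IsOpenImmersion (gmj k).left := inferInstanceAs (IsOpenImmersion (gmO k).ι)

variable (k) in
/-- The coordinate on the punctured line. -/
def tau : O (gmS k) := cd (gmj k) PUnit.unit

theorem isUnit_of_basicOpen {T : Scheme.{u}} {U : T.Opens} (f : Γ(T, U)) (h : U ≤ T.basicOpen f) : IsUnit f := by
  apply RingedSpace.isUnit_of_isUnit_germ T.toRingedSpace U f
  intro x hx
  exact (T.mem_basicOpen f x hx).1 (h hx)

theorem isUnit_tau : IsUnit (tau k) := by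
  apply isUnit_of_basicOpen
  have h : tau k = (gmO k).ι.appTop (AffineSpace.coord _ PUnit.unit) := rfl
  have h1 : (gmS k).left.basicOpen (tau k) = (gmO k).ι ⁻¹ᵁ (gmO k) := by
    rw [h]
    exact (Scheme.preimage_basicOpen_top (gmO k).ι _).symm
  rw [h1]
  intro x _
  exact x.2

/-- Points of the punctured line. -/
theorem exists_gmS {T : Over (Spec (CommRingCat.of k))} (t : O T) (ht : IsUnit t) : ∃ g : T ⟶ gmS k, ro g (tau k) = t := by
  let x : T ⟶ aff k PUnit.{u+1} := vec T (fun _ => t)
  have hx : x.left.appTop.hom (AffineSpace.coord _ PUnit.unit) = t := congrFun (cd_vec T (fun _ => t)) PUnit.unit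
  have h1 : x.left ⁻¹ᵁ gmO k = ⊤ := by
    have h0 : x.left ⁻¹ᵁ gmO k = T.left.basicOpen (x.left.appTop (AffineSpace.coord _ PUnit.unit)) :=
      Scheme.preimage_basicOpen_top x.left _
    rw [h0]
    have h2 : x.left.appTop (AffineSpace.coord _ PUnit.unit) = t := hx
    rw [h2]
    exact Scheme.basicOpen_of_isUnit _ ht
  have h2 : Set.range x.left ⊆ Set.range (gmO k).ι := by
    rw [Scheme.Opens.range_ι]
    rintro _ ⟨z, rfl⟩
    have : z ∈ x.left ⁻¹ᵁ gmO k := by rw [h1]; trivial
    exact this
  let l := IsOpenImmersion.lift (gmO k).ι x.left h2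
  have hl : l ≫ (gmO k).ι = x.left := IsOpenImmersion.lift_fac _ _ _
  let g : T ⟶ gmS k := Over.homMk l (by
    change l ≫ (gmO k).ι ≫ _ = _
    rw [← Category.assoc, hl]
    exact Over.w x)
  have hg : g ≫ gmj k = x := by
    ext1
    exact hl
  refine ⟨g, ?_⟩
  have := cd_comp g (gmj k) PUnit.unit
  rw [hg] at this
  rw [← hx]
  exact this.symm

theorem gmS_ext {T : Over (Spec (CommRingCat.of k))} {g g' : T ⟶ gmS k} (h : ro g (tau k) = ro g' (tau k)) : g = g' := by
  have h1 : g ≫ gmj k = g' ≫ gmj k := by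
    apply ext_cd
    funext i
    rw [cd_comp, cd_comp]
    exact h
  ext1
  rw [← cancel_mono (gmj k).left]
  exact congrArg (fun f => f.left) h1

end Groth.Agent.PicF.K718

end
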