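import Groth.Agent.PicF.K718.Pv
import Groth.Agent.Sga3B.RG.BrPts

/-!
# Morphisms from the affine line to the Picard scheme of a pair are constant
-/

set_option autoImplicit false
universe u
open CategoryTheory CategoryTheory.Limits AlgebraicGeometry Opposite MonoidalCategory CartesianMonoidalCategory
  MonObj GrpObj

noncomputable section

namespace Groth.Agent.PicF.K718

open Groth.Agent.Etdl.H432.Sec Groth.Agent.Etdl.H432.Un Groth.Agent.Etdl.H494
  Groth.Agent.Etdl.H494.Gamma K505.RatConst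

variable {k : Type u} [Field k]

/-- The structure morphism. -/
def cpt (T : Over (Spec (CommRingCat.of k))) : T ⟶ pt k := Over.homMk T.hom (Category.comp_id _)

theorem cpt_pt (g : pt k ⟶ pt k) : g = 𝟙 _ := by
  ext1
  have := Over.w g
  exact (Category.comp_id _).symm.trans this

theorem comp_cpt {T T' : Over (Spec (CommRingCat.of k))} (g : T' ⟶ T) : g ≫ cpt T = cpt T' := by
  ext1
  exact Over.w g

/-- A point of a scheme over the base. -/
def mkpt {Y : Scheme.{u}} {f : Y ⟶ Spec (CommRingCat.of k)} (y : Spec (CommRingCat.of k) ⟶ Y) (hy : y ≫ f = 𝟙 _) :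
    pt k ⟶ Over.mk f := Over.homMk y hy

variable [IsAlgClosed k] {Y P : Scheme.{u}} {i : Y ⟶ P} {π : P ⟶ Spec (CommRingCat.of k)}
  [IsProper π] [Smooth π] [IsIntegral P] [IsClosedImmersion i] [IsReduced Y]
  {G : Over (Spec (CommRingCat.of k))} [GrpObj G] [IsCommMonObj G]
  (e : CGrpSh.pts Scheme.fppfPrecoverage G ≅ Jc π i)

omit [IsReduced Y] in
include e in
/-- Points on `U` vanishing at a rational point come from units on `Y_U`. -/
theorem exists_dl_pv [Nonempty Y] {n : Type u} [Finite n] {U : Over (Spec (CommRingCat.of k))}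
    (j : U ⟶ aff k n) [IsOpenImmersion j.left] (u₀ : pt k ⟶ U) (x : U ⟶ G) (hx : u₀ ≫ x = 1) :
    ∃ v : Γs (C i) (PO π U), dl π v = pv e x := by
  obtain ⟨y, hy⟩ := exists_section (i ≫ π)
  refine exists_dl (fun T s => eq_zero_of_point y hy T s) (fun c => exists_pull U j.left (Over.w j) u₀ c) u₀ _ ?_
  rw [r_pv, hx, pv_one]

include e in
/-- Morphisms from the line take the same value at all points. -/
theorem line_eq [Nonempty Y] (f : aff k PUnit.{u+1} ⟶ G) (t t₀ : pt k ⟶ aff k PUnit.{u+1}) : t ≫ f = t₀ ≫ f := by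
  have hx : ∀ s : pt k ⟶ aff k PUnit.{u+1}, s ≫ (f * (cpt _ ≫ t₀ ≫ f)⁻¹) = (s ≫ f) * (t₀ ≫ f)⁻¹ := by
    intro s
    rw [comp_mul, comp_inv, ← Category.assoc s (cpt _), comp_cpt, cpt_pt (cpt (pt k)), Category.id_comp]
  let j : aff k PUnit.{u+1} ⟶ aff k PUnit.{u+1} := 𝟙 _
  have : IsOpenImmersion j.left := inferInstanceAs (IsOpenImmersion (𝟙 _))
  obtain ⟨v, hv⟩ := exists_dl_pv e j t₀ (f * (cpt _ ≫ t₀ ≫ f)⁻¹) (by
    rw [hx, mul_inv_cancel])
  have h1 : pv e (t ≫ (f * (cpt _ ≫ t₀ ≫ f)⁻¹)) = pv e (t₀ ≫ (f * (cpt _ ≫ t₀ ≫ f)⁻¹)) := by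
    rw [← r_pv, ← r_pv, ← hv, ← dl_r, ← dl_r, r_eq_of_line v t t₀]
  have h2 := pv_injective e h1
  rw [hx, hx, mul_inv_cancel, mul_inv_eq_one] at h2
  exact h2

include e in
/-- Morphisms from the affine line to a separated group mapping injectively to the Picard scheme are constant. -/
theorem line_const [Nonempty Y] (G0 : Over (Spec (CommRingCat.of k))) [IsSeparated G0.hom] (u : G0 ⟶ G) [Mono u]
    (f : aff k PUnit.{u+1} ⟶ G0) : ∃ g : 𝟙_ (Over (Spec (CommRingCat.of k))) ⟶ G0, f = toUnit _ ≫ g := by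
  have h1 : IsReduced (aff k PUnit.{u+1}).left :=
    inferInstanceAs (IsReduced (𝔸(PUnit.{u+1}; Spec (CommRingCat.of k))))
  have h2 : LocallyOfFiniteType (aff k PUnit.{u+1}).hom :=
    inferInstanceAs (LocallyOfFiniteType (𝔸(PUnit.{u+1}; Spec (CommRingCat.of k)) ↘ Spec (CommRingCat.of k)))
  refine ⟨K505.RatConst.pt 0 ≫ f, Groth.Agent.Sga3B.RG.BrPts.hom_ext_of_points _ _ fun x => ?_⟩
  rw [← Category.assoc, toUnit_unique (x ≫ toUnit _) (𝟙 _), Category.id_comp, ← cancel_mono u, Category.assoc,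
    Category.assoc]
  exact line_eq e (f ≫ u) x (K505.RatConst.pt 0)

end Groth.Agent.PicF.K718

end
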