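import Groth.Agent.PicF.K718.Geo
import Groth.Agent.PicF.K718.Line

/-!
# Functions on `Y` over an algebraically closed field

* `eq_of_pts`: a function on a reduced scheme is determined by its values at rational points;
* `ext_sl`: the same for sections of `i_* G_m`;
* `fn v`: the function on `Y` of a section of `i_* G_m` over the base.
-/

set_option autoImplicit false
universe u
open CategoryTheory CategoryTheory.Limits AlgebraicGeometry Opposite

noncomputable section

namespace Groth.Agent.PicF.K718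

open Groth.Agent.Etdl.H432.Sec Groth.Agent.Etdl.H432.Un Groth.Agent.Etdl.H494
  Groth.Agent.Etdl.H494.Gamma

variable {k : Type u} [Field k]

theorem eq_of_pts [IsAlgClosed k] {Z : Scheme.{u}} (f : Z ⟶ Spec (CommRingCat.of k)) [LocallyOfFiniteType f]
    [IsReduced Z] (a b : Γ(Z, ⊤)) (h : ∀ z : Spec (CommRingCat.of k) ⟶ Z, z ≫ f = 𝟙 _ →
      z.appTop.hom a = z.appTop.hom b) : a = b := by
  rw [← sub_eq_zero, ← basicOpen_eq_bot_iff, eq_bot_iff]
  intro x hx
  exfalso
  have hJ : JacobsonSpace Z := LocallyOfFiniteType.jacobsonSpace f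
  have h1 : closure ((Z.basicOpen (a - b) : Set Z) ∩ closedPoints Z) = closure (Z.basicOpen (a - b) : Set Z) :=
    JacobsonSpace.closure_inter_closedPoints_eq_closure (Z.basicOpen (a - b)).2.isLocallyClosed
  have h2 : ((Z.basicOpen (a - b) : Set Z) ∩ closedPoints Z).Nonempty := by
    rw [← closure_nonempty_iff, h1, closure_nonempty_iff]
    exact ⟨x, hx⟩
  obtain ⟨y, hy, hyc⟩ := h2
  have h3 := h (pointOfClosedPoint f y hyc) (pointOfClosedPoint_comp f y hyc)
  have h4 : (pointOfClosedPoint f y hyc) ⁻¹ᵁ Z.basicOpen (a - b) =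
      (Spec (CommRingCat.of k)).basicOpen ((pointOfClosedPoint f y hyc).appTop (a - b)) :=
    Scheme.preimage_basicOpen_top _ _
  have h5 : (pointOfClosedPoint f y hyc).appTop (a - b) = 0 := by
    change (pointOfClosedPoint f y hyc).appTop.hom (a - b) = 0
    rw [map_sub, h3, sub_self]
  rw [h5, Scheme.basicOpen_zero] at h4
  have h6 : (IsLocalRing.closedPoint k : Spec (CommRingCat.of k)) ∈
      (pointOfClosedPoint f y hyc) ⁻¹ᵁ Z.basicOpen (a - b) := by
    change (pointOfClosedPoint f y hyc) _ ∈ Z.basicOpen (a - b)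
    rw [pointOfClosedPoint_apply]
    exact hy
  rw [h4] at h6
  exact h6

variable {Y P : Scheme.{u}} {i : Y ⟶ P} {π : P ⟶ Spec (CommRingCat.of k)}

variable (i π) in
/-- The inclusion `Y ⟶ Y_T` for the trivial `T`. -/
def zt : Y ⟶ pullback (PO π (pt k)).hom i :=
  pullback.lift (pullback.lift (i ≫ π) i (by simp)) (𝟙 Y) ((pullback.lift_snd _ _ _).trans (Category.id_comp _).symm)

theorem zt_snd : zt i π ≫ pullback.snd (PO π (pt k)).hom i = 𝟙 Y := pullback.lift_snd _ _ _

theorem zt_fst : zt i π ≫ pullback.fst (PO π (pt k)).hom i ≫ pullback.fst (pt k).hom π = i ≫ π := by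
  rw [zt, pullback.lift_fst_assoc]
  exact pullback.lift_fst _ _ _

theorem fst_fst (T : Over (Spec (CommRingCat.of k))) : pullback.fst (PO π T).hom i ≫ pullback.fst T.hom π ≫ T.hom =
    pullback.snd (PO π T).hom i ≫ i ≫ π := by
  have h3 : pullback.fst (PO π T).hom i ≫ (PO π T).hom = pullback.snd (PO π T).hom i ≫ i := pullback.condition
  have h4 : pullback.fst T.hom π ≫ T.hom = (PO π T).hom ≫ π := pullback.condition
  rw [h4, ← Category.assoc, h3, Category.assoc]

theorem snd_zt [Mono i] : pullback.snd (PO π (pt k)).hom i ≫ zt i π = 𝟙 _ := by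
  apply pb_ext
  · rw [Category.assoc, zt_fst, Category.id_comp, ← fst_fst]
    exact congrArg (pullback.fst (PO π (pt k)).hom i ≫ ·) (Category.comp_id _)
  · rw [Category.assoc, zt_snd, Category.id_comp, Category.comp_id]

theorem bijective_zt [Mono i] : Function.Bijective (zt i π).appTop.hom := by
  have h1 := congrArg (fun φ => Scheme.Hom.appTop φ) (snd_zt (i := i) (π := π))
  have h2 := congrArg (fun φ => Scheme.Hom.appTop φ) (zt_snd (i := i) (π := π))
  simp only [Scheme.Hom.comp_appTop, Scheme.Hom.id_appTop] at h1 h2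
  exact Function.bijective_iff_has_inverse.2 ⟨(pullback.snd (PO π (pt k)).hom i).appTop.hom,
    fun x => congr(($h1).hom x), fun x => congr(($h2).hom x)⟩

/-- The function on `Y` of a section of `i_* G_m` over the base. -/
def fn (v : Γs (C i) (PO π (pt k))) : Γ(Y, ⊤) := (zt i π).appTop.hom (cv i v)

theorem fn_add (v w : Γs (C i) (PO π (pt k))) : fn (v + w) = fn v * fn w := by
  rw [fn, cv_add]
  exact map_mul _ _ _

theorem fn_zero : fn (0 : Γs (C i) (PO π (pt k))) = 1 := by
  rw [fn, cv_zero]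
  exact map_one _

theorem fn_injective [Mono i] : Function.Injective (fn : Γs (C i) (PO π (pt k)) → _) :=
  bijective_zt.1.comp cv_injective

theorem isUnit_fn (v : Γs (C i) (PO π (pt k))) : IsUnit (fn v) := (isUnit_cv v).map _

theorem exists_fn [Mono i] (f : Γ(Y, ⊤)) (hf : IsUnit f) : ∃ v : Γs (C i) (PO π (pt k)), fn v = f := by
  obtain ⟨g, hg⟩ := (bijective_zt (i := i) (π := π)).2 f
  have h1 : IsUnit g := by
    have h2 := hf.map (pullback.snd (PO π (pt k)).hom i).appTop.hom
    have h3 := congrArg (fun φ => (Scheme.Hom.appTop φ).hom g) (snd_zt (i := i) (π := π))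
    simp only [Scheme.Hom.comp_appTop, Scheme.Hom.id_appTop] at h3
    have h4 : (pullback.snd (PO π (pt k)).hom i).appTop.hom ((zt i π).appTop.hom g) = g := h3
    rw [← hg, h4] at h2
    exact h2
  obtain ⟨v, hv⟩ := exists_cv g h1
  exact ⟨v, by rw [fn, hv, hg]⟩

theorem sl_pt [Mono i] (y : Spec (CommRingCat.of k) ⟶ Y) (hy : y ≫ i ≫ π = 𝟙 _) (v : Γs (C i) (PO π (pt k))) :
    sl y hy v = y.appTop.hom (fn v) := by
  have h : slc (pt k) y hy = y ≫ zt i π := by
    apply pb_ext
    · rw [slc_fst, Category.assoc, zt_fst, hy]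
      rfl
    · rw [slc_snd, Category.assoc, zt_snd, Category.comp_id]
      exact Category.id_comp _
  rw [sl, h, fn, Scheme.Hom.comp_appTop]
  rfl

theorem ext_sl [IsAlgClosed k] [Mono i] [LocallyOfFiniteType (i ≫ π)] [IsReduced Y] (v w : Γs (C i) (PO π (pt k)))
    (h : ∀ (y : Spec (CommRingCat.of k) ⟶ Y) (hy : y ≫ i ≫ π = 𝟙 _), sl y hy v = sl y hy w) : v = w := by
  apply fn_injective
  apply eq_of_pts (i ≫ π)
  intro y hy
  rw [← sl_pt y hy, ← sl_pt y hy]
  exact h y hy

end Groth.Agent.PicF.K718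

end
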