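import Groth.Agent.Etdl.H494.Gamma
import Groth.Agent.Etdl.H512.GmModSec
import Groth.Agent.Etrest.BigPush4
import Groth.Prelude.Def_HRes

/-!
# Direct images on big fppf sites along a section

`s ≫ π = 𝟙`: `R¹π_* (s_* A) = 0`.
-/

set_option autoImplicit false
universe u
open CategoryTheory CategoryTheory.Limits AlgebraicGeometry Opposite

noncomputable section

namespace Groth.Agent.PicF.K718

open Groth.Agent.Etdl.H432.Sec Groth.Agent.Etdl.H432.Un Groth.Agent.Etdl.H432.IQ

variable {X Y S : Scheme.{u}}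

theorem injective_pushBig (f : X ⟶ Y) (I : EtFppf.AbF X) [Injective I] : Injective ((EtFppf.pushBig f).obj I) := by
  let adj : BigSite.pullBig Scheme.fppfPrecoverage f AddCommGrpCat.{u + 1} ⊣ EtFppf.pushBig f :=
    BigSite.bigAdj Scheme.fppfPrecoverage f AddCommGrpCat.{u + 1}
  exact Injective.injective_of_adjoint adj I

section Section

variable (π : X ⟶ S) (s : S ⟶ X) (hs : s ≫ π = 𝟙 S)

/-- Base change along `π` and then along the section `s`. -/
def pullSec : Over.pullback π ⋙ Over.pullback s ≅ 𝟭 (Over S) :=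
  (Over.pullbackComp s π).symm ≪≫ (eqToIso (congrArg (fun f => Over.pullback f) hs)) ≪≫ Over.pullbackId

/-- `π_* s_* H ≅ H`. -/
def pushSec (H : EtFppf.AbF S) : H ≅ (EtFppf.pushBig π).obj ((EtFppf.pushBig s).obj H) :=
  (fullyFaithfulSheafToPresheaf _ _).preimageIso
    (NatIso.ofComponents (fun T => H.obj.mapIso ((pullSec π s hs).app T.unop).op) (by
      intro T T' g
      refine (H.obj.map_comp _ _).symm.trans (Eq.trans ?_ (H.obj.map_comp _ _))
      exact congrArg (fun t => H.obj.map (Quiver.Hom.op t)) ((pullSec π s hs).hom.naturality g.unop).symm))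

theorem pushSec_naturality {H H' : EtFppf.AbF S} (p : H ⟶ H') :
    p ≫ (pushSec π s hs H').hom = (pushSec π s hs H).hom ≫ (EtFppf.pushBig π).map ((EtFppf.pushBig s).map p) := by
  apply (sheafToPresheaf _ _).map_injective
  ext T : 2
  exact (p.hom.naturality ((pullSec π s hs).hom.app T.unop).op).symm

include hs in
theorem epi_push {H H' : EtFppf.AbF S} (p : H ⟶ H') [Epi p] :
    Epi ((EtFppf.pushBig π).map ((EtFppf.pushBig s).map p)) := by
  have h : Epi ((pushSec π s hs H).hom ≫ (EtFppf.pushBig π).map ((EtFppf.pushBig s).map p)) := by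
    rw [← pushSec_naturality]
    infer_instance
  exact epi_of_epi (pushSec π s hs H).hom _

theorem epi_zero (G : EtFppf.AbF X ⥤ EtFppf.AbF S) [G.Additive] [PreservesFiniteLimits G] {M N : EtFppf.AbF X}
    (p : M ⟶ N) [Epi (G.map p)] : Epi ((G.rightDerived 0).map p) := by
  have h1 : (G.rightDerived 0).map p ≫ G.rightDerivedZeroIsoSelf.hom.app N =
      G.rightDerivedZeroIsoSelf.hom.app M ≫ G.map p := G.rightDerivedZeroIsoSelf.hom.naturality p
  have h2 : (G.rightDerived 0).map p = G.rightDerivedZeroIsoSelf.hom.app M ≫ G.map p ≫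
      G.rightDerivedZeroIsoSelf.inv.app N := by
    rw [← Category.assoc, ← h1, Category.assoc]
    simp
  rw [h2]
  infer_instance

include hs in
theorem isZero_R1 (A : EtFppf.AbF S) :
    IsZero ((EtFppf.RpushBig π 1).obj ((EtFppf.pushBig s).obj A)) := by
  let I := Injective.under A
  let ι : A ⟶ I := Injective.ι A
  let S0 : ShortComplex (EtFppf.AbF S) := ShortComplex.mk ι (cokernel.π ι) (cokernel.condition ι)
  have hS0 : S0.ShortExact :=
    { exact := ShortComplex.exact_cokernel _
      mono_f := inferInstanceAs (Mono ι)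
      epi_g := inferInstanceAs (Epi (cokernel.π ι)) }
  let f := (EtFppf.pushBig s).map ι
  have hf : Mono f := inferInstance
  let S1 : ShortComplex (EtFppf.AbF X) := ShortComplex.mk f (cokernel.π f) (cokernel.condition f)
  have hS1 : S1.ShortExact :=
    { exact := ShortComplex.exact_cokernel _
      mono_f := hf
      epi_g := inferInstanceAs (Epi (cokernel.π f)) }
  have h1 : (S0.map (EtFppf.pushBig s)).Exact := by
    have := hS0.mono_f
    exact hS0.exact.map_of_mono_of_preservesKernel _ inferInstance inferInstance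
  let κ : cokernel f ⟶ (EtFppf.pushBig s).obj (cokernel ι) := cokernel.desc f ((EtFppf.pushBig s).map (cokernel.π ι))
    (S0.map (EtFppf.pushBig s)).zero
  have hκ : Mono κ := (ShortComplex.exact_iff_mono_cokernel_desc (S0.map (EtFppf.pushBig s))).1 h1
  have h2 : (EtFppf.pushBig π).map (cokernel.π f) ≫ (EtFppf.pushBig π).map κ =
      (EtFppf.pushBig π).map ((EtFppf.pushBig s).map (cokernel.π ι)) := by
    rw [← Functor.map_comp, cokernel.π_desc]
  have h3 : Epi ((EtFppf.pushBig π).map (cokernel.π f) ≫ (EtFppf.pushBig π).map κ) := by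
    rw [h2]
    exact epi_push π s hs (cokernel.π ι)
  have h4 : Epi ((EtFppf.pushBig π).map κ) := epi_of_epi ((EtFppf.pushBig π).map (cokernel.π f)) _
  have h5 : Mono ((EtFppf.pushBig π).map κ) := inferInstance
  have h6 : IsIso ((EtFppf.pushBig π).map κ) := isIso_of_mono_of_epi _
  have h7 : Epi ((EtFppf.pushBig π).map S1.g) := by
    have e : (EtFppf.pushBig π).map S1.g = ((EtFppf.pushBig π).map (cokernel.π f) ≫ (EtFppf.pushBig π).map κ) ≫
        inv ((EtFppf.pushBig π).map κ) := by
      rw [Category.assoc, IsIso.hom_inv_id, Category.comp_id]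
    rw [e]
    infer_instance
  have h8 : Epi (((EtFppf.pushBig π).rightDerived 0).map S1.g) := epi_zero _ _
  have h9 : Injective S1.X₂ := injective_pushBig s I
  have h10 : IsZero ((EtFppf.RpushBig π 1).obj S1.X₂) :=
    Functor.isZero_rightDerived_obj_injective_succ _ 0 S1.X₂
  have h11 : Epi (Groth.Agent.Etrest.RDer1.δ (EtFppf.pushBig π) hS1 0) :=
    Groth.Agent.Etrest.RDer1.epi_δ _ hS1 0 h10
  have h12 := Groth.Agent.Etrest.RDer1.comp_δ (EtFppf.pushBig π) hS1 0
  have h13 : Groth.Agent.Etrest.RDer1.δ (EtFppf.pushBig π) hS1 0 = 0 := by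
    rw [← cancel_epi (((EtFppf.pushBig π).rightDerived 0).map S1.g), h12, comp_zero]
  exact IsZero.of_epi_eq_zero _ h13

end Section

end Groth.Agent.PicF.K718

end
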