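import Groth.Agent.Sga3B.DSPts
import Groth.Agent.PicF.K718.Count
import Groth.Agent.PicF.K718.Line

/-!
# Points of a split torus
-/

set_option autoImplicit false
universe u
open CategoryTheory CategoryTheory.Limits AlgebraicGeometry Opposite MonoidalCategory CartesianMonoidalCategory
  MonObj GrpObj

noncomputable section

namespace Groth.Agent.PicF.K718

open Groth.Agent.Etdl.H432.Sec Groth.Agent.Sga3B.DSPts

theorem exists_tpts {S : Scheme.{u}} {r : ℕ} {T : Over S} [GrpObj T] (h : Red.IsSplitTorusWith (Fin r → ℤ) T) :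
    ∃ E : ∀ X : Over S, (Multiplicative (Fin r → ℤ) →* O X) ≃* (X ⟶ T),
      ∀ {X X' : Over S} (g : X' ⟶ X) (χ : Multiplicative (Fin r → ℤ) →* O X),
        g ≫ E X χ = E X' ((ro g : O X →* O X').comp χ) := by
  obtain ⟨e⟩ := h
  let e' : T ≅ Red.DS S (Fin r → ℤ) := (Grp.forget _).mapIso e
  have he : IsMonHom e'.inv := e.inv.hom.isMonHom_hom
  let p : ∀ X : Over S, (X ⟶ Red.DS S (Fin r → ℤ)) ≃* (X ⟶ T) := fun X =>
    { toFun := fun x => x ≫ e'.inv
      invFun := fun x => x ≫ e'.hom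
      left_inv := fun x => by simp
      right_inv := fun x => by simp
      map_mul' := fun x y => MonObj.mul_comp x y e'.inv }
  refine ⟨fun X => (dsEquiv X (Fin r → ℤ)).trans (p X), ?_⟩
  intro X X' g χ
  change g ≫ dsEquiv X (Fin r → ℤ) χ ≫ e'.inv = dsEquiv X' (Fin r → ℤ) _ ≫ e'.inv
  rw [← Category.assoc, dsEquiv_naturality]
  rfl

variable {k : Type u} [Field k] {r : ℕ} {T : Over (Spec (CommRingCat.of k))} [GrpObj T]

/-- The points of a split torus are generated by the values of its one-parameter subgroups. -/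
theorem tpts_induction (h : Red.IsSplitTorusWith (Fin r → ℤ) T) (Q : (pt k ⟶ T) → Prop) (h1 : Q 1)
    (hmul : ∀ x y, Q x → Q y → Q (x * y))
    (hc : ∀ (φ : gmS k ⟶ T) (t₁ t : pt k ⟶ gmS k), t₁ ≫ φ = 1 → Q (t ≫ φ)) (x : pt k ⟶ T) : Q x := by
  obtain ⟨E, hE⟩ := exists_tpts h
  obtain ⟨χ, rfl⟩ := (E (pt k)).surjective x
  obtain ⟨t, rfl⟩ := exists_pch χ
  have h2 : ∀ (j : Fin r) (t : (O (pt k))ˣ), Q (E (pt k) (uch j t)) := by
    intro j t
    obtain ⟨g, hg⟩ := exists_gmS (t : O (pt k)) t.isUnit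
    obtain ⟨g₁, hg₁⟩ := exists_gmS (1 : O (pt k)) isUnit_one
    have h3 : ∀ (g : pt k ⟶ gmS k) (t : (O (pt k))ˣ), ro g (tau k) = t →
        g ≫ E (gmS k) (uch j isUnit_tau.unit) = E (pt k) (uch j t) := by
      intro g t hg
      rw [hE, comp_uch]
      congr 2
      ext
      exact hg
    rw [← h3 g t hg]
    apply hc _ g₁
    rw [h3 g₁ 1 hg₁, uch_one, map_one]
  rw [pch]
  generalize (Finset.univ : Finset (Fin r)) = s
  induction s using Finset.induction_on with
  | empty => rwa [Finset.prod_empty, map_one]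
  | insert a s ha ih =>
    rw [Finset.prod_insert ha, map_mul]
    exact hmul _ _ (h2 _ _) ih

/-- The group of points of a split torus. -/
theorem exists_mulEquiv (h : Red.IsSplitTorusWith (Fin r → ℤ) T) : Nonempty ((Fin r → (O (pt k))ˣ) ≃* (pt k ⟶ T)) := by
  obtain ⟨E, hE⟩ := exists_tpts h
  exact ⟨(pchEquiv r (O (pt k))).trans (E (pt k))⟩

end Groth.Agent.PicF.K718

end
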