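import Groth.Agent.PicF.K718.Bd
import Groth.Agent.PicF.K718.Torus
import Groth.Prelude.Def_CGrpSh

/-!
# Points of the Picard scheme as sections of `R¹π_* G_m(m)`
-/

set_option autoImplicit false
universe u
open CategoryTheory CategoryTheory.Limits AlgebraicGeometry Opposite MonoidalCategory CartesianMonoidalCategory
  MonObj GrpObj

noncomputable section

namespace Groth.Agent.PicF.K718

open Groth.Agent.Etdl.H432.Sec Groth.Agent.Etdl.H432.Un Groth.Agent.Etdl.H494
  Groth.Agent.Etdl.H494.Gamma K505.RatConst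

section pv

variable {S : Scheme.{u}} {G : Over S} [GrpObj G] [IsCommMonObj G] {J : EtFppf.AbF S}
  (e : CGrpSh.pts Scheme.fppfPrecoverage G ≅ J)

/-- The section attached to a point. -/
def pv {T : Over S} (x : T ⟶ G) : Γs J T := m (H := CGrpSh.pts Scheme.fppfPrecoverage G) e.hom T
  (ULift.up (Additive.ofMul x))

theorem pv_mul {T : Over S} (x y : T ⟶ G) : pv e (x * y) = pv e x + pv e y :=
  (m (H := CGrpSh.pts Scheme.fppfPrecoverage G) e.hom T).map_add (ULift.up (Additive.ofMul x))
    (ULift.up (Additive.ofMul y))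

theorem pv_one {T : Over S} : pv e (1 : T ⟶ G) = 0 :=
  (m (H := CGrpSh.pts Scheme.fppfPrecoverage G) e.hom T).map_zero

theorem r_pv {T T' : Over S} (g : T' ⟶ T) (x : T ⟶ G) : r J g (pv e x) = pv e (g ≫ x) :=
  (m_r (H := CGrpSh.pts Scheme.fppfPrecoverage G) e.hom g (ULift.up (Additive.ofMul x))).symm

theorem exists_pv {T : Over S} (ξ : Γs J T) : ∃ x : T ⟶ G, pv e x = ξ := by
  let s : Γs (CGrpSh.pts Scheme.fppfPrecoverage G) T := m e.inv T ξ
  refine ⟨s.down.toMul, ?_⟩
  change m (H := CGrpSh.pts Scheme.fppfPrecoverage G) e.hom T (m e.inv T ξ) = ξ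
  rw [← m_comp, e.inv_hom_id, m_id]

theorem pv_injective {T : Over S} : Function.Injective (pv e : (T ⟶ G) → Γs J T) := by
  intro x y h
  have h1 := congrArg (m e.inv T) h
  rw [pv, pv, ← m_comp, ← m_comp, e.hom_inv_id, m_id, m_id] at h1
  exact Additive.ofMul.injective (ULift.up_injective h1)

end pv

end Groth.Agent.PicF.K718

end
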