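import Groth.Agent.Models.H74.H0Card
import Groth.Agent.PicF.K718.Line

/-!
# Functions on a reduced proper scheme over an algebraically closed field
-/

set_option autoImplicit false
universe u
open CategoryTheory CategoryTheory.Limits AlgebraicGeometry Opposite TopologicalSpace

noncomputable section

namespace Groth.Agent.PicF.K718

open Groth.Agent.CurvesB Groth.Agent.Models.H74.EvIdeal Groth.Agent.Models.H74.H0Card

theorem exists_rho {k : Type u} [Field k] [IsAlgClosed k] {Z : Scheme.{u}} (f : Z ⟶ Spec (CommRingCat.of k))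
    [IsProper f] [IsReduced Z] : Finite (_root_.ConnectedComponents Z) ∧
      ∃ ρ : Γ(Z, ⊤) ≃+* (_root_.ConnectedComponents Z → k), ∀ a : k, ρ (cst (Over.mk f) a) = fun _ => a := by
  have hN : IsNoetherian Z := GenusLib.isNoetherian_of_proper f
  have hL : LocallyConnectedSpace Z := Groth.Agent.S2277.result Z fun x =>
    ⟨Set.univ, Filter.univ_mem, NoetherianSpace.set _⟩
  have hfin : Finite (_root_.ConnectedComponents Z) := inferInstance
  refine ⟨hfin, ?_⟩
  have : Fintype (_root_.ConnectedComponents Z) := Fintype.ofFinite _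
  let W : _root_.ConnectedComponents Z → Z.Opens := fun c =>
    ⟨(_root_.ConnectedComponents.mk : Z → _root_.ConnectedComponents Z) ⁻¹' {c},
      (isOpen_discrete {c}).preimage _root_.ConnectedComponents.continuous_coe⟩
  have hWcl : ∀ c, IsClosed (W c : Set Z) := fun c =>
    (isClosed_discrete {c}).preimage _root_.ConnectedComponents.continuous_coe
  have hWconn : ∀ c, _root_.IsConnected (W c : Set Z) := by
    intro c
    obtain ⟨x, rfl⟩ := _root_.ConnectedComponents.surjective_coe c
    have h1 : (W (_root_.ConnectedComponents.mk x) : Set Z) = connectedComponent x :=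
      connectedComponents_preimage_singleton
    rw [h1]
    exact isConnected_connectedComponent
  have hd : ∀ c d, c ≠ d → W c ⊓ W d = ⊥ := by
    intro c d hcd
    rw [eq_bot_iff]
    rintro x ⟨hx, hy⟩
    exact hcd ((Set.mem_singleton_iff.mp hx).symm.trans (Set.mem_singleton_iff.mp hy))
  have hcov : ⊤ ≤ iSup W := fun x _ => Opens.mem_iSup.mpr ⟨_root_.ConnectedComponents.mk x, rfl⟩
  let B : ∀ c, k ≃+* Γ(Z, W c) := fun c =>
    RingEquiv.ofBijective (str f (W c)) (bijective_str_of_clopen f (W c) (hWcl c) (hWconn c))
  let r : ∀ c, Γ(Z, ⊤) →+* Γ(Z, W c) := fun c => (Z.presheaf.map (homOfLE (le_top (a := W c))).op).hom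
  have hr : ∀ c a, r c (cst (Over.mk f) a) = B c a := fun c a => rfl
  let L : Γ(Z, ⊤) →+* (_root_.ConnectedComponents Z → k) :=
    RingHom.pi fun c => ((B c).symm : Γ(Z, W c) →+* k).comp (r c)
  have hLa : ∀ x c, L x c = (B c).symm (r c x) := fun x c => rfl
  have hL : Function.Bijective L := by
    constructor
    · rw [injective_iff_map_eq_zero]
      intro x hx
      refine TopCat.Sheaf.eq_of_locally_eq' Z.sheaf W ⊤ (fun c => homOfLE le_top) hcov _ _ ?_
      intro c
      have h1 : (B c).symm (r c x) = 0 := congrFun hx c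
      have h2 : r c x = 0 := by
        have := congrArg (B c) h1
        rwa [RingEquiv.apply_symm_apply, map_zero] at this
      exact h2.trans (map_zero (r c)).symm
    · intro a
      obtain ⟨t, ht⟩ := exists_glue W hd hcov fun c => B c (a c)
      refine ⟨t, ?_⟩
      funext c
      rw [hLa]
      have : r c t = B c (a c) := ht c
      rw [this, RingEquiv.symm_apply_apply]
  refine ⟨RingEquiv.ofBijective L hL, fun a => ?_⟩
  funext c
  change L _ c = a
  rw [hLa, hr, RingEquiv.symm_apply_apply]

end Groth.Agent.PicF.K718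

end
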