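import Groth.Agent.PicF.K718.Fam
import Groth.Agent.PicF.K718.Rho

/-!
# The rank of the maximal torus
-/

set_option autoImplicit false
universe u
open CategoryTheory CategoryTheory.Limits AlgebraicGeometry Opposite MonoidalCategory CartesianMonoidalCategory
  MonObj GrpObj

noncomputable section

namespace Groth.Agent.PicF.K718

open Groth.Agent.Etdl.H432.Sec Groth.Agent.Etdl.H432.Un Groth.Agent.Etdl.H494
  Groth.Agent.Etdl.H494.Gamma K505.RatConst

variable {k : Type u} [Field k] [IsAlgClosed k] {Y P : Scheme.{u}} {i : Y ⟶ P} {π : P ⟶ Spec (CommRingCat.of k)}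
  [IsProper π] [Smooth π] [IsIntegral P] [IsClosedImmersion i] [IsReduced Y]
  {G : Over (Spec (CommRingCat.of k))} [GrpObj G] [IsCommMonObj G]
  (e : CGrpSh.pts Scheme.fppfPrecoverage G ≅ Jc π i)
  {G0 T A : Over (Spec (CommRingCat.of k))} [GrpObj G0] [GrpObj T] [GrpObj A]
  (u : G0 ⟶ G) [IsMonHom u] (j : T ⟶ G0) [IsMonHom j] (q : G0 ⟶ A) [IsMonHom q]

omit [IsAlgClosed k] in
/-- The group of points of a split torus. -/
theorem exists_mulEquiv' {n : ℕ} (h : Red.IsSplitTorusWith (Fin n → ℤ) T) : Nonempty ((pt k ⟶ T) ≃* (Fin n → kˣ)) := by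
  obtain ⟨E⟩ := exists_mulEquiv h
  let c : k ≃+* O (pt k) := RingEquiv.ofBijective (cst (pt k)) bijective_cst_pt
  exact ⟨E.symm.trans (MulEquiv.piCongrRight fun _ => Units.mapEquiv c.toMulEquiv.symm)⟩

include e in
theorem card_eq [CharZero k] [Nonempty Y] [IsOpenImmersion u.left] (hu : Set.range u.left = SGA3x.neutralSet G)
    [IsClosedImmersion j.left] [IsProper A.hom] (hk : AlgGrp.IsKernel j q) {n : ℕ}
    (hT : Red.IsSplitTorusWith (Fin n → ℤ) T) : Nat.card (_root_.ConnectedComponents Y) = n + 1 := by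
  obtain ⟨hfin, ρ, hρ⟩ := exists_rho (i ≫ π)
  have hmu : Mono u := (Over.forget _).mono_of_mono_map (inferInstanceAs (Mono u.left))
  have hmj : Mono j := (Over.forget _).mono_of_mono_map (inferInstanceAs (Mono j.left))
  have hinj : ∀ x y : pt k ⟶ T, pv e (x ≫ j ≫ u) = pv e (y ≫ j ≫ u) → x = y := by
    intro x y h
    have h1 := pv_injective e h
    rwa [cancel_mono] at h1
  have hpv : ∀ x y : pt k ⟶ T, pv e ((x * y) ≫ j ≫ u) = pv e (x ≫ j ≫ u) + pv e (y ≫ j ≫ u) := by
    intro x y
    rw [← pv_mul, ← Category.assoc (x * y), MonObj.mul_comp, MonObj.mul_comp, Category.assoc, Category.assoc]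
  have hpv1 : pv e ((1 : pt k ⟶ T) ≫ j ≫ u) = 0 := by
    rw [← Category.assoc, MonObj.one_comp, MonObj.one_comp, pv_one]
  have hext : ∀ v w : Γs (C i) (PO π (pt k)), ρ (fn v) = ρ (fn w) → v = w := fun v w h =>
    fn_injective (ρ.injective h)
  have hΦ0 : ∀ f : _root_.ConnectedComponents Y → kˣ, ∃ v : Γs (C i) (PO π (pt k)), ρ (fn v) = fun c => (f c : k) := by
    intro f
    have h1 : IsUnit (fun c => (f c : k)) := Pi.isUnit_iff.2 fun c => (f c).isUnit
    obtain ⟨v, hv⟩ := exists_fn (i := i) (π := π) (ρ.symm fun c => (f c : k)) (h1.map ρ.symm)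
    exact ⟨v, by rw [hv, RingEquiv.apply_symm_apply]⟩
  choose Φ hΦ using hΦ0
  have hΦm : ∀ f g, Φ (f * g) = Φ f + Φ g := by
    intro f g
    apply hext
    rw [hΦ, fn_add, map_mul, hΦ, hΦ]
    rfl
  have hΦ1 : Φ 1 = 0 := by
    apply hext
    rw [hΦ, fn_zero, map_one]
    rfl
  have key : ∀ f : _root_.ConnectedComponents Y → kˣ, ∃ x : pt k ⟶ T, pv e (x ≫ j ≫ u) = dl π (Φ f) := by
    classical
    have := Fintype.ofFinite (_root_.ConnectedComponents Y)
    intro f
    rw [← Finset.univ_prod_mulSingle f]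
    refine Finset.prod_induction _ (fun f => ∃ x : pt k ⟶ T, pv e (x ≫ j ≫ u) = dl π (Φ f)) ?_ ?_ ?_
    · rintro f g ⟨x, hx⟩ ⟨y, hy⟩
      exact ⟨x * y, by rw [hpv, hx, hy, hΦm, map_add]⟩
    · exact ⟨1, by rw [hpv1, hΦ1, map_zero]⟩
    · intro c _
      refine exists_pt_of_idem e u j q hu hk (ρ.symm (Pi.single c 1)) ?_ (f c) _ ?_
      · rw [← map_mul]
        congr 1
        funext d
        by_cases hd : d = c
        · subst hd
          simp
        · simp [hd]
      · apply ρ.injective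
        rw [hΦ, map_add, map_mul, map_sub, map_one, RingEquiv.apply_symm_apply]
        have h1 : ρ (cY (i ≫ π) (f c)) = fun _ => (f c : k) := hρ _
        rw [h1]
        funext d
        by_cases hd : d = c
        · subst hd
          simp
        · simp [hd]
  choose X hX using key
  obtain ⟨E⟩ := exists_mulEquiv' hT
  let Θ : (_root_.ConnectedComponents Y → kˣ) →* (Fin n → kˣ) :=
    MonoidHom.mk' (fun f => E (X f)) (by
      intro f g
      rw [← map_mul]
      congr 1
      apply hinj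
      rw [hX, hpv, hX, hX, hΦm, map_add])
  have hs : Function.Surjective Θ := by
    intro y
    obtain ⟨x, rfl⟩ := E.surjective y
    obtain ⟨v, hv⟩ := exists_unit_of_pt e u j hT x
    have h1 : IsUnit (ρ (fn v)) := (isUnit_fn v).map ρ
    have h2 := Pi.isUnit_iff.1 h1
    refine ⟨fun c => (h2 c).unit, ?_⟩
    change E (X _) = E x
    congr 1
    apply hinj
    rw [hX, ← hv]
    congr 1
    apply hext
    rw [hΦ]
    rfl
  refine natCard_eq (exists_sq_units k) (card_tt_units k two_ne_zero) _ n Θ hs ?_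
  intro f
  have h1 : Θ f = 1 ↔ dl π (Φ f) = 0 := by
    rw [← hX, ← hpv1]
    constructor
    · intro h
      have h2 : E (X f) = E 1 := by
        rw [map_one]
        exact h
      rw [E.injective h2]
    · intro h
      have h2 := hinj _ _ h
      change E (X f) = 1
      rw [h2, map_one]
  rw [h1, dl_eq_zero_iff]
  constructor
  · rintro ⟨a, ha⟩
    have h2 : (fun c => (f c : k)) = fun _ => a := by
      rw [← hΦ, ha]
      exact hρ a
    obtain ⟨y⟩ := ‹Nonempty Y›
    refine ⟨f (_root_.ConnectedComponents.mk y), ?_⟩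
    funext c
    apply Units.ext
    exact (congrFun h2 c).trans (congrFun h2 (_root_.ConnectedComponents.mk y)).symm
  · rintro ⟨a, rfl⟩
    refine ⟨a, ?_⟩
    apply ρ.injective
    rw [hΦ]
    exact (hρ a).symm

end Groth.Agent.PicF.K718

end
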