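import Groth.Agent.PicF.K718.Push
import Groth.Agent.PicF.K718.Delta

/-!
# Global classes

If `π_* F = 0`, every section of `R¹π_* F` over `T` comes from a section of `Q` over `P_T`.
-/

set_option autoImplicit false
universe u
open CategoryTheory CategoryTheory.Limits AlgebraicGeometry Opposite

noncomputable section

namespace Groth.Agent.PicF.K718

open Groth.Agent.Etdl.H432.Sec Groth.Agent.Etdl.H432.Un Groth.Agent.Etdl.H432.LS Groth.Agent.Etdl.H494
  Groth.Agent.Etdl.H494.Gamma
open Groth.Agent.Etdl.H432.IQ (Q I α β β_α α_injective exists_α αβ)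

variable {Y P S : Scheme.{u}} {i : Y ⟶ P} {π : P ⟶ S}

theorem mono_of_injective {F G : EtFppf.AbF S} (f : F ⟶ G) (h : ∀ T, Function.Injective (m f T)) : Mono f := by
  have h1 : ∀ T, Mono (f.hom.app T) := fun T => (AddCommGrpCat.mono_iff_injective _).2 (h T.unop)
  have h2 : Mono f.hom := NatTrans.mono_of_mono_app _
  exact (sheafToPresheaf _ _).mono_of_mono_map h2

theorem exists_cl_eq (h0 : ∀ (T : Over S) (s : Γs (F i) (PO π T)), s = 0) {T : Over S} (ξ : Γs (Jc π i) T) :
    ∃ q : Γs (Q i) (PO π T), cl π q = ξ := by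
  have hm : Mono ((EtFppf.pushBig π).map (β i)) := by
    apply mono_of_injective
    intro T
    refine (injective_iff_map_eq_zero _).2 fun b hb => ?_
    obtain ⟨s, hs⟩ := exists_α (i := i) (U := PO π T) b hb
    rw [← hs, h0 T s, map_zero]
    rfl
  have hI : Injective ((EtFppf.pushBig π).obj (I i)) := injective_pushBig π _
  have hS : (ShortComplex.mk ((EtFppf.pushBig π).map (β i)) (γ π i) (map_β_γ π i)).ShortExact :=
    { exact := exact_γ π i
      mono_f := hm
      epi_g := inferInstanceAs (Epi (γ π i)) }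
  have hI' : Injective (ShortComplex.mk ((EtFppf.pushBig π).map (β i)) (γ π i) (map_β_γ π i)).X₁ := hI
  let sp := hS.splittingOfInjective
  have hs : sp.s ≫ γ π i = 𝟙 _ := sp.s_g
  refine ⟨m sp.s T ξ, ?_⟩
  have h1 := m_comp sp.s (γ π i) T ξ
  rw [hs, m_id] at h1
  exact h1.symm

end Groth.Agent.PicF.K718

end
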